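import Mathlib

/-!
Coordinates on a Suzuki 2-group of type A: the operations and the parametrised family used to
rewrite the products `τ u τ` in a Zassenhaus group.
-/

set_option autoImplicit false
set_option linter.unusedSectionVars false

namespace Cfsg.Agent.Lib.SuzukiUniq

variable {F : Type*} [Field F] [CharP F 2]

/-- The weight of the centre. -/
def pw (φ : F ≃+* F) (s : F) : F := φ s * s

theorem pw_one (φ : F ≃+* F) : pw φ 1 = 1 := by simp [pw]
theorem pw_zero (φ : F ≃+* F) : pw φ 0 = 0 := by simp [pw]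
theorem pw_mul (φ : F ≃+* F) (s t : F) : pw φ (s * t) = pw φ s * pw φ t := by
  simp [pw, map_mul]; ring
theorem pw_inv (φ : F ≃+* F) (s : F) : pw φ s⁻¹ = (pw φ s)⁻¹ := by
  simp [pw, map_inv₀, mul_comm]
theorem pw_ne_zero (φ : F ≃+* F) {s : F} (hs : s ≠ 0) : pw φ s ≠ 0 :=
  mul_ne_zero ((map_ne_zero_iff φ φ.injective).2 hs) hs
theorem pw_sq (φ : F ≃+* F) (s : F) : pw φ (s * s) = pw φ s ^ 2 := by rw [pw_mul, pow_two]
theorem pw_one_add (φ : F ≃+* F) (s : F) : pw φ (1 + s) = 1 + s + φ s + pw φ s := by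
  simp [pw, map_add]; ring

/-- The product of coordinates. -/
def umul (φ : F ≃+* F) (X Y : F × F) : F × F := (X.1 + Y.1, X.2 + Y.2 + φ X.1 * Y.1)

/-- The inverse of coordinates. -/
def uinv (φ : F ≃+* F) (X : F × F) : F × F := (X.1, X.2 + φ X.1 * X.1)

/-- The torus action on coordinates. -/
def usc (φ : F ≃+* F) (r : F) (X : F × F) : F × F := (r * X.1, pw φ r * X.2)

theorem umul_assoc (φ : F ≃+* F) (X Y Z : F × F) :
    umul φ (umul φ X Y) Z = umul φ X (umul φ Y Z) := by
  refine Prod.ext ?_ ?_ <;> simp [umul, map_add] <;> ring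

theorem umul_zero (φ : F ≃+* F) (X : F × F) : umul φ X 0 = X := by simp [umul]
theorem zero_umul (φ : F ≃+* F) (X : F × F) : umul φ 0 X = X := by simp [umul]

theorem umul_uinv (φ : F ≃+* F) (X : F × F) : umul φ X (uinv φ X) = 0 := by
  refine Prod.ext ?_ ?_ <;> simp only [umul, uinv, Prod.fst_zero, Prod.snd_zero]
  · exact CharTwo.add_self_eq_zero _
  · linear_combination (X.2 + φ X.1 * X.1) * CharTwo.two_eq_zero (R := F)

theorem usc_umul (φ : F ≃+* F) (r : F) (X Y : F × F) :
    usc φ r (umul φ X Y) = umul φ (usc φ r X) (usc φ r Y) := by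
  refine Prod.ext ?_ ?_ <;> simp [umul, usc, pw, map_mul] <;> ring

theorem usc_usc (φ : F ≃+* F) (r s : F) (X : F × F) :
    usc φ r (usc φ s X) = usc φ (r * s) X := by
  simp [usc, pw_mul, mul_assoc]

theorem usc_one (φ : F ≃+* F) (X : F × F) : usc φ 1 X = X := by simp [usc, pw_one]

/-- The point of the family attached to one parameter. -/
def wpt (φ : F ≃+* F) (b t : F) : F × F := (t, b * pw φ t)

/-- The family. -/
def fam (φ : F ≃+* F) (b t₁ t₂ : F) : F × F := umul φ (wpt φ b t₁) (uinv φ (wpt φ b t₂))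

theorem fam_eq (φ : F ≃+* F) (b t₁ t₂ : F) :
    fam φ b t₁ t₂ = (t₁ + t₂, b * pw φ t₁ + (b + 1) * pw φ t₂ + φ t₁ * t₂) := by
  refine Prod.ext rfl ?_
  simp [fam, umul, uinv, wpt, pw]; ring

theorem wpt_mul (φ : F ≃+* F) (b r t : F) : wpt φ b (r * t) = usc φ r (wpt φ b t) := by
  simp [wpt, usc, pw_mul]; ring

theorem usc_uinv (φ : F ≃+* F) (r : F) (X : F × F) :
    usc φ r (uinv φ X) = uinv φ (usc φ r X) := by
  refine Prod.ext rfl ?_
  simp [uinv, usc, pw, map_mul]; ring

theorem fam_mul (φ : F ≃+* F) (b r t₁ t₂ : F) :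
    fam φ b (r * t₁) (r * t₂) = usc φ r (fam φ b t₁ t₂) := by
  rw [fam, fam, wpt_mul, wpt_mul, ← usc_uinv, usc_umul]

/-- The additive map governing the family. -/
def lmap (φ : F ≃+* F) (b : F) : F →+ F :=
  AddMonoidHom.mk' (fun s => b * φ s + (b + 1) * s) fun s t => by simp [map_add]; ring

/-- Its companion. -/
def lmap' (φ : F ≃+* F) (b : F) : F →+ F :=
  AddMonoidHom.mk' (fun s => b * s + (b + 1) * φ s) fun s t => by simp [map_add]; ring

theorem lmap_apply (φ : F ≃+* F) (b s : F) : lmap φ b s = b * φ s + (b + 1) * s := rfl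
theorem lmap'_apply (φ : F ≃+* F) (b s : F) : lmap' φ b s = b * s + (b + 1) * φ s := rfl

theorem lmap_one (φ : F ≃+* F) (b : F) : lmap φ b 1 = 1 := by
  rw [lmap_apply, map_one]
  linear_combination b * CharTwo.two_eq_zero (R := F)

theorem fam_one (φ : F ≃+* F) (b s : F) :
    fam φ b s (1 + s) = (1, lmap φ b s + b + 1) := by
  rw [fam_eq, lmap_apply, pw_one_add, pw]
  refine Prod.ext ?_ ?_
  · show s + (1 + s) = 1
    linear_combination s * CharTwo.two_eq_zero (R := F)
  · show _ = b * φ s + (b + 1) * s + b + 1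
    linear_combination (φ s + φ s * s * b + φ s * s) * CharTwo.two_eq_zero (R := F)

end Cfsg.Agent.Lib.SuzukiUniq
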