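import Mathlib
import Cfsg.Agent.Lib.SuzukiTwo.Square
import Cfsg.Agent.Lib.SuzukiUniq.Ops

/-!
Coordinates on a Suzuki 2-group of square order in which a regular automorphism is diagonal.
-/

set_option autoImplicit false
set_option linter.unusedSectionVars false

namespace Cfsg.Agent.Lib.SuzukiUniq

open Cfsg.Agent.Lib.SuzukiTwo
open scoped commutatorElement

/-- Pairs, for a twisted sum. -/
@[ext]
structure TwPair (F : Type*) where
  fst : F
  snd : F

/-- A symmetric cocycle with zero diagonal is a coboundary. -/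
theorem exists_coboundary {F : Type*} [Field F] [Fintype F] [CharP F 2] (b : F → F → F)
    (hsymm : ∀ x y, b x y = b y x) (hdiag : ∀ x, b x x = 0)
    (hassoc : ∀ x y z, b x y + b (x + y) z = b y z + b x (y + z)) :
    ∃ D : F → F, ∀ x y, b x y = D x + D y + D (x + y) := by
  have two := CharTwo.two_eq_zero (R := F)
  have h0 : ∀ y, b 0 y = 0 := fun y => by
    have h := hassoc 0 0 y
    simp only [zero_add, hdiag] at h
    linear_combination -h
  letI : Add (TwPair F) := ⟨fun p q => ⟨p.fst + q.fst, p.snd + q.snd + b p.fst q.fst⟩⟩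
  letI : Zero (TwPair F) := ⟨⟨0, 0⟩⟩
  letI : Neg (TwPair F) := ⟨id⟩
  letI : AddCommGroup (TwPair F) :=
    { add_assoc := fun p q r => by
        refine TwPair.ext (add_assoc _ _ _) ?_
        show p.snd + q.snd + b p.fst q.fst + r.snd + b (p.fst + q.fst) r.fst =
          p.snd + (q.snd + r.snd + b q.fst r.fst) + b p.fst (q.fst + r.fst)
        linear_combination hassoc p.fst q.fst r.fst
      zero_add := fun p => by
        refine TwPair.ext (zero_add _) ?_
        show 0 + p.snd + b 0 p.fst = p.snd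
        rw [h0, zero_add, add_zero]
      add_zero := fun p => by
        refine TwPair.ext (add_zero _) ?_
        show p.snd + 0 + b p.fst 0 = p.snd
        rw [hsymm, h0, add_zero, add_zero]
      nsmul := nsmulRec
      zsmul := zsmulRec
      neg_add_cancel := fun p => by
        refine TwPair.ext (CharTwo.add_self_eq_zero _) ?_
        show p.snd + p.snd + b p.fst p.fst = 0
        rw [hdiag, add_zero, CharTwo.add_self_eq_zero]
      add_comm := fun p q => by
        refine TwPair.ext (add_comm _ _) ?_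
        show p.snd + q.snd + b p.fst q.fst = q.snd + p.snd + b q.fst p.fst
        rw [hsymm p.fst, add_comm p.snd] }
  letI : Module (ZMod 2) (TwPair F) := AddCommGroup.zmodModule (fun p => by
    rw [two_nsmul]
    refine TwPair.ext (CharTwo.add_self_eq_zero _) ?_
    show p.snd + p.snd + b p.fst p.fst = 0
    rw [hdiag, add_zero, CharTwo.add_self_eq_zero])
  letI : Module (ZMod 2) F := (ZMod.algebra F 2).toModule
  let j : F →+ TwPair F := AddMonoidHom.mk' (fun v => ⟨0, v⟩) (fun v w => by
    refine TwPair.ext (add_zero _).symm ?_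
    show v + w = v + w + b 0 0
    rw [hdiag, add_zero])
  let jl : F →ₗ[ZMod 2] TwPair F := j.toZModLinearMap 2
  have hj : LinearMap.ker jl = ⊥ := LinearMap.ker_eq_bot.mpr fun v w h => congrArg TwPair.snd h
  obtain ⟨l, hl⟩ := jl.exists_leftInverse_of_injective hj
  refine ⟨fun x => l ⟨x, 0⟩, fun x y => ?_⟩
  have e : (⟨x, 0⟩ : TwPair F) + ⟨y, 0⟩ = ⟨x + y, 0⟩ + jl (b x y) := by
    refine TwPair.ext (add_zero _).symm ?_
    show 0 + 0 + b x y = 0 + b x y + b (x + y) 0
    rw [hsymm (x + y), h0, add_zero, add_zero]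
  have h := congrArg l e
  rw [map_add, map_add] at h
  have hlj : l (jl (b x y)) = b x y := LinearMap.congr_fun hl (b x y)
  linear_combination -h - hlj - l (⟨x + y, 0⟩ : TwPair F) * two

theorem exists_coord {P : Type*} [Group P] (hP : Cfsg.IsSuzukiTwoGroup P) {k : MulAut P}
    (hk : IsRegGen k) (hcard : Nat.card P = Nat.card (Subgroup.center P) ^ 2) :
    ∃ (F : Type) (_ : Field F) (_ : Fintype F) (_ : CharP F 2) (φ : F ≃+* F) (g : F)
      (Ψ : F × F → P),
      Fintype.card F = Nat.card (Subgroup.center P) ∧ Function.Bijective Ψ ∧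
        (∀ X Y, Ψ X * Ψ Y = Ψ (umul φ X Y)) ∧ IsGen g ∧
        (∀ X, k (Ψ X) = Ψ (usc φ g X)) ∧ Function.Injective (pw φ) := by
  classical
  haveI : Finite P := hP.1
  have h2 : IsPGroup 2 P := hP.2.1
  obtain ⟨a0, b0, hab0⟩ := hP.2.2.1
  obtain ⟨z1, z2, -, hz1, hz1z, -, -⟩ := hP.2.2.2.1
  have hZ2 := center_elementary hP
  have hV : ∀ x : P, x * x = 1 → x ∈ Subgroup.center P := fun x => involution_central hk h2
  have hcen : ∀ z ∈ Subgroup.center P, ∀ x : P, z * x = x * z := fun z hz x =>
    (Subgroup.mem_center_iff.mp hz x).symm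
  have htop : Subgroup.center P < ⊤ := lt_top_iff_ne_top.mpr fun h =>
    hab0 (Subgroup.mem_center_iff.mp (h ▸ Subgroup.mem_top b0 : b0 ∈ Subgroup.center P) a0)
  obtain ⟨M, hZM, -, -, hMinv, hM⟩ :=
    exists_layer (k := k) h2 (C := ⊤) inv_center (fun x _ => Subgroup.mem_top _) htop
  have hcm : ∀ x ∈ M, ∀ p : P, ⁅x, p⁆ ∈ Subgroup.center P := fun x hx => (hM x hx).2
  have hsq : ∀ x ∈ M, x * x ∈ Subgroup.center P := fun x hx => (hM x hx).1
  -- every central element is a square in `M`
  have hroot : ∀ z ∈ Subgroup.center P, ∃ x ∈ M, x * x = z := by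
    intro z hz
    by_cases hz1' : z = 1
    · exact ⟨1, one_mem M, by rw [hz1', one_mul]⟩
    obtain ⟨x, hx, hxZ⟩ := SetLike.exists_of_lt hZM
    obtain ⟨i, hi⟩ := hk.trans (x * x) z (fun h => hxZ (hV x h)) (hZ2 _ (hsq x hx)) hz1' (hZ2 z hz)
    exact ⟨(k ^ i) x, hMinv.pow i x hx, by rw [← map_mul, hi]⟩
  set Z := Subgroup.center P with hZdef
  -- the squaring map on the cosets
  have hMtop : M = ⊤ := by
    refine Subgroup.eq_top_of_card_eq M (le_antisymm (Subgroup.card_le_card_group M) ?_)
    choose r hrM hr using fun z : Z => hroot z.1 z.2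
    rw [hcard, pow_two, ← Nat.card_prod]
    refine Nat.card_le_card_of_injective
      (fun p : Z × Z => (⟨r p.1 * p.2, mul_mem (hrM _) (hZM.le p.2.2)⟩ : M)) ?_
    rintro ⟨u, v⟩ ⟨u', v'⟩ h
    have h' : r u * v = r u' * v' := congrArg Subtype.val h
    have hs : ∀ (u v : Z), r u * v * (r u * v) = u := fun u v => by
      calc r u * v * (r u * v) = r u * ((v : P) * r u) * v := by group
        _ = r u * r u * ((v : P) * v) := by rw [hcen v v.2]; group
        _ = u := by rw [hr, hZ2 v v.2, mul_one]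
    have hu : u = u' := Subtype.ext (by rw [← hs u v, h', hs])
    subst hu
    rw [Prod.mk.injEq]
    exact ⟨rfl, Subtype.ext (mul_left_cancel h')⟩
  have hsq' : ∀ x : P, x * x ∈ Z := fun x => hsq x (hMtop ▸ Subgroup.mem_top x)
  have hcm' : ∀ x p : P, ⁅x, p⁆ ∈ Z := fun x => hcm x (hMtop ▸ Subgroup.mem_top x)
  have hmulsq : ∀ x, ∀ z ∈ Z, x * z * (x * z) = x * x := fun x z hz => by
    calc x * z * (x * z) = x * (z * x) * z := by group
      _ = x * x * (z * z) := by rw [hcen z hz]; group
      _ = x * x := by rw [hZ2 z hz, mul_one]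
  -- squaring is a bijection between the cosets and the centre
  have hsqinj : ∀ x y : P, x * x = y * y → (x : P ⧸ Z) = y := by
    let S : P ⧸ Z → Z := fun c => Quotient.liftOn' c (fun x => (⟨x * x, hsq' x⟩ : Z)) (fun x y h => by
      rw [QuotientGroup.leftRel_apply] at h
      refine Subtype.ext ?_
      show x * x = y * y
      rw [← hmulsq x _ h, mul_inv_cancel_left])
    have hbij : Function.Bijective S := by
      refine Function.Surjective.bijective_of_nat_card_le (fun z => ?_) ?_
      · obtain ⟨x, -, hx⟩ := hroot z.1 z.2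
        exact ⟨(x : P ⧸ Z), Subtype.ext hx⟩
      · have := Subgroup.card_eq_card_quotient_mul_card_subgroup Z
        rw [hcard, pow_two] at this
        exact (Nat.eq_of_mul_eq_mul_right Nat.card_pos this).ge
    intro x y h
    exact hbij.1 (Subtype.ext h : S (x : P ⧸ Z) = S (y : P ⧸ Z))
  have hQexp : ∀ c : P ⧸ Z, c * c = 1 := by
    intro c
    obtain ⟨x, rfl⟩ := QuotientGroup.mk_surjective c
    exact (QuotientGroup.eq_one_iff (x * x)).mpr (hsq' x)
  have hQcomm : ∀ x y : P ⧸ Z, x * y = y * x := fun x y => by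
    have hinv : ∀ c : P ⧸ Z, c⁻¹ = c := fun c => inv_eq_of_mul_eq_one_right (hQexp c)
    rw [← hinv (x * y), mul_inv_rev, hinv, hinv]
  have hkZ : Z.map (k : P ≃* P).toMonoidHom = Z := by
    refine Subgroup.eq_of_le_of_card_ge ?_ ?_
    · rintro _ ⟨z, hz, rfl⟩
      exact inv_center z hz
    · rw [Subgroup.card_map_of_injective (k : P ≃* P).injective]
  set k' : (P ⧸ Z) ≃* (P ⧸ Z) := QuotientGroup.congr Z Z k hkZ with hk'
  have hk'mk : ∀ x : P, k' (x : P ⧸ Z) = ((k x : P) : P ⧸ Z) := fun x => rfl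
  have hk'pow : ∀ (i : ℕ) (x : P), ((k' : MulAut _) ^ i) (x : P ⧸ Z) = (((k ^ i) x : P) : P ⧸ Z) := by
    intro i
    induction i with
    | zero => exact fun x => rfl
    | succ i ih => exact fun x => by rw [pow_succ', pow_succ', MulAut.mul_apply, ih, MulAut.mul_apply, hk'mk]
  obtain ⟨r0, -, hr0⟩ := hroot z1 (hV z1 hz1z)
  have hr0Z : (r0 : P ⧸ Z) ≠ 1 := fun h => hz1 (by
    rw [← hr0]; exact hZ2 r0 ((QuotientGroup.eq_one_iff r0).mp h))
  obtain ⟨F, iF, iFin, iC, ρ, e, hρ, heinj, headd, he1, herange, hemul⟩ :=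
    exists_field_of_involutions k' (fun x y _ _ => hQcomm x y) (r0 : P ⧸ Z) hr0Z (hQexp _) (by
      intro c hc1 _
      obtain ⟨x, rfl⟩ := QuotientGroup.mk_surjective c
      obtain ⟨i, hi⟩ := hk.trans (r0 * r0) (x * x) (hr0.symm ▸ hz1) (hZ2 _ (hsq' r0))
        (fun h => hc1 ((QuotientGroup.eq_one_iff x).mpr (hV x h))) (hZ2 _ (hsq' x))
      refine ⟨i, ?_⟩
      rw [hk'pow]
      exact hsqinj _ _ (by rw [← map_mul, hi]))
  obtain ⟨F₂, iF₂, iFin₂, iC₂, l₂, e₂, hl₂, he₂inj, he₂add, he₂1, he₂range, he₂mul⟩ :=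
    exists_field_of_involutions k (fun x y hx _ => hcen x (hV x hx) y) z1 hz1 hz1z
      (fun v hv1 hv => hk.trans z1 v hz1 hz1z hv1 hv)
  have hcardF : Fintype.card F = Nat.card Z := by
    rw [← Nat.card_eq_fintype_card]
    have h1 : Nat.card F = Nat.card (P ⧸ Z) :=
      Nat.card_congr (Equiv.ofBijective e ⟨heinj, fun c => (herange c).mp (hQexp c)⟩)
    have h2 := Subgroup.card_eq_card_quotient_mul_card_subgroup Z
    rw [hcard, pow_two] at h2
    rw [h1, ← Nat.eq_of_mul_eq_mul_right Nat.card_pos h2]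
  have hcardF₂ : Fintype.card F₂ = Nat.card Z := by
    rw [← Nat.card_eq_fintype_card]
    refine Nat.card_congr (Equiv.ofBijective (fun x => (⟨e₂ x, hV _ ((he₂range _).mpr ⟨x, rfl⟩)⟩ : Z))
      ⟨fun x y h => he₂inj (congrArg Subtype.val h), fun z => ?_⟩)
    obtain ⟨x, hx⟩ := (he₂range z.1).mp (hZ2 z.1 z.2)
    exact ⟨x, Subtype.ext hx⟩
  have hθ : Nonempty (F₂ ≃+* F) := by
    refine ⟨FiniteField.ringEquivOfCardEq ?_⟩
    first
      | rw [hcardF₂, hcardF]
      | rw [Nat.card_eq_fintype_card, Nat.card_eq_fintype_card, hcardF₂, hcardF]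
  obtain ⟨θ⟩ := hθ
  -- `η` identifies `F` with the centre
  let η : Multiplicative F →* P :=
    MonoidHom.mk' (fun y => e₂ (θ.symm y.toAdd)) (fun x y => by rw [toAdd_mul, map_add, he₂add])
  have hηinj : Function.Injective η := fun x y h =>
    Multiplicative.toAdd.injective (θ.symm.injective (he₂inj h))
  have hηZ : ∀ y, η y ∈ Z := fun y => hV _ ((he₂range _).mpr ⟨_, rfl⟩)
  have hηsurj : ∀ z ∈ Z, ∃ y, η y = z := by
    intro z hz
    obtain ⟨x, hx⟩ := (he₂range z).mp (hZ2 z hz)
    exact ⟨Multiplicative.ofAdd (θ x), by simp [η, hx]⟩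
  choose L hL using fun u : F => QuotientGroup.mk_surjective (e u)
  choose Q hQ using fun u : F => hηsurj _ (hsq' (L u))
  set m : F := θ l₂ with hm
  let Qf : F → F := fun u => (Q u).toAdd
  have hQf : ∀ u, η (Multiplicative.ofAdd (Qf u)) = L u * L u := fun u => hQ u
  have hsame : ∀ (x : P) (u : F), (x : P ⧸ Z) = e u → x * x = L u * L u := by
    intro x u h
    rw [← hmulsq (L u) ((L u)⁻¹ * x) (QuotientGroup.eq.mp ((hL u).trans h.symm)), mul_inv_cancel_left]
  have he0 : e 0 = 1 := by
    have := headd 0 0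
    rw [add_zero] at this
    exact mul_eq_right.mp this.symm
  have hQ0 : Qf 0 = 0 := by
    have h : η (Multiplicative.ofAdd (Qf 0)) = η 1 := by
      rw [hQf, ← hsame 1 0 he0.symm, one_mul, map_one]
    exact ofAdd_eq_one.mp (hηinj h)
  have hη1 : η (Multiplicative.ofAdd (1 : F)) = z1 := by
    show e₂ (θ.symm 1) = z1
    rw [map_one, he₂1]
  have hQ1 : Qf 1 = 1 := by
    have h : η (Multiplicative.ofAdd (Qf 1)) = η (Multiplicative.ofAdd 1) := by
      rw [hQf, ← hsame r0 1 he1.symm, hr0, hη1]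
    exact Multiplicative.ofAdd.injective (hηinj h)
  have hQρ : ∀ x, Qf (ρ * x) = m * Qf x := by
    intro x
    have h : η (Multiplicative.ofAdd (Qf (ρ * x))) = η (Multiplicative.ofAdd (m * Qf x)) := by
      rw [hQf, ← hsame (k (L x)) (ρ * x) (by rw [hemul, ← hL x, hk'mk]), ← map_mul, ← hQf x]
      show k (e₂ (θ.symm (Qf x))) = e₂ (θ.symm (m * Qf x))
      rw [← he₂mul, map_mul, hm, RingEquiv.symm_apply_apply]
    exact Multiplicative.ofAdd.injective (hηinj h)
  -- the commutator form
  have hBex : ∀ u v : F, ∃ y, η y = ⁅(L u)⁻¹, L v⁆ := fun u v => hηsurj _ (hcm' _ _)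
  choose Bf hBf using hBex
  let B' : F → F → F := fun u v => (Bf u v).toAdd
  have hB' : ∀ u v, η (Multiplicative.ofAdd (B' u v)) = ⁅(L u)⁻¹, L v⁆ := fun u v => hBf u v
  have hQB : ∀ u v, Qf (u + v) = Qf u + Qf v + B' u v := by
    intro u v
    have h : η (Multiplicative.ofAdd (Qf (u + v))) =
        η (Multiplicative.ofAdd (Qf u + Qf v + B' u v)) := by
      rw [hQf, ← hsame (L u * L v) (u + v) (by rw [headd, QuotientGroup.mk_mul, hL, hL]), sq_mul,
        ofAdd_add, ofAdd_add, map_mul, map_mul, hQf, hQf, hB', mul_assoc, hcen _ (hcm' _ _),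
        ← mul_assoc]
    exact Multiplicative.ofAdd.injective (hηinj h)
  have hmulL : ∀ a a' b : P, ⁅a * a', b⁆ = ⁅a, b⁆ * ⁅a', b⁆ := fun a a' b => by
    rw [show ⁅a * a', b⁆ = a * ⁅a', b⁆ * a⁻¹ * ⁅a, b⁆ by simp only [commutatorElement_def]; group,
      ← hcen _ (hcm' a' b) a, mul_inv_cancel_right, hcen _ (hcm' a' b)]
  have hmulR : ∀ a b b' : P, ⁅a, b * b'⁆ = ⁅a, b⁆ * ⁅a, b'⁆ := fun a b b' => by
    rw [show ⁅a, b * b'⁆ = ⁅a, b⁆ * (b * ⁅a, b'⁆ * b⁻¹) by simp only [commutatorElement_def]; group,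
      ← hcen _ (hcm' a b') b, mul_inv_cancel_right]
  have hcongr : ∀ a a' b : P, (a : P ⧸ Z) = a' → ⁅a, b⁆ = ⁅a', b⁆ ∧ ⁅b, a⁆ = ⁅b, a'⁆ := by
    intro a a' b h
    have hd := QuotientGroup.eq.mp h
    have ha' : a' = a * (a⁻¹ * a') := by group
    rw [ha', hmulL, hmulR, commutatorElement_eq_one_iff_mul_comm.mpr (hcen _ hd b),
      commutatorElement_eq_one_iff_mul_comm.mpr (hcen _ hd b).symm, mul_one, mul_one]
    exact ⟨rfl, rfl⟩
  have hBl : ∀ u u' v, B' (u + u') v = B' u v + B' u' v := by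
    intro u u' v
    have h : η (Multiplicative.ofAdd (B' (u + u') v)) =
        η (Multiplicative.ofAdd (B' u v + B' u' v)) := by
      rw [ofAdd_add, map_mul, hB', hB', hB', ← hmulL]
      refine (hcongr _ _ _ ?_).1
      rw [QuotientGroup.mk_inv, QuotientGroup.mk_mul, QuotientGroup.mk_inv, QuotientGroup.mk_inv,
        hL, hL, hL, headd, mul_inv_rev]
      exact hQcomm _ _
    exact Multiplicative.ofAdd.injective (hηinj h)
  have hBr : ∀ u v v', B' u (v + v') = B' u v + B' u v' := by
    intro u v v'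
    have h : η (Multiplicative.ofAdd (B' u (v + v'))) =
        η (Multiplicative.ofAdd (B' u v + B' u v')) := by
      rw [ofAdd_add, map_mul, hB', hB', hB', ← hmulR]
      refine (hcongr _ _ _ ?_).2
      rw [QuotientGroup.mk_mul, hL, hL, hL, headd]
    exact Multiplicative.ofAdd.injective (hηinj h)
  let B : F →+ F →+ F := AddMonoidHom.mk' (fun u => AddMonoidHom.mk' (B' u) (hBr u))
    fun u u' => AddMonoidHom.ext fun v => hBl u u' v
  have hBne : B ≠ 0 := by
    intro h
    refine hab0 ?_
    rw [← commutatorElement_eq_one_iff_mul_comm]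
    obtain ⟨u, hu⟩ := (herange _).mp (hQexp (a0⁻¹ : P))
    obtain ⟨v, hv⟩ := (herange _).mp (hQexp (b0 : P))
    rw [(hcongr a0 (L u)⁻¹ b0 (by rw [QuotientGroup.mk_inv, hL, hu, QuotientGroup.mk_inv, inv_inv])).1,
      (hcongr b0 (L v) _ (by rw [hL, hv])).2, ← hB', show B' u v = 0 from
        DFunLike.congr_fun (DFunLike.congr_fun h u) v, ofAdd_zero, map_one]
  obtain ⟨σ, τ, hst, hQσ⟩ := exists_pair_of_quadratic hρ Qf B hQB hBne hQ0 hQ1 hQρ
  set φ : F ≃+* F := σ.symm.trans τ with hφ
  have hg : ∀ u : F, u * φ u = Qf (σ.symm u) := fun u => by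
    rw [hQσ, hφ, RingEquiv.trans_apply, RingEquiv.apply_symm_apply]
  have hQinj : Function.Injective Qf := by
    intro u v h
    refine heinj ?_
    rw [← hL u, ← hL v]
    exact hsqinj _ _ (by rw [← hQf, ← hQf, h])
  have hpw : Function.Injective (pw φ) := fun u v h => σ.symm.injective (hQinj (by
    rw [← hg, ← hg]
    simpa [pw, mul_comm] using h))
  have hφne : σ ≠ τ := hst
  set g : F := σ ρ with hgdef
  have hgen : IsGen g := by
    rw [IsGen, hgdef, ← hρ]
    exact MulEquiv.orderOf_eq σ.toMulEquiv ρ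
  have hM : m = pw φ g := by
    have h := hQρ 1
    rw [mul_one, hQ1, mul_one] at h
    rw [← h, hQσ, pw, hgdef, hφ, RingEquiv.trans_apply, RingEquiv.symm_apply_apply, mul_comm]
  have hkη : ∀ y : F, k (η (Multiplicative.ofAdd y)) = η (Multiplicative.ofAdd (pw φ g * y)) := by
    intro y
    show k (e₂ (θ.symm y)) = e₂ (θ.symm (pw φ g * y))
    rw [← he₂mul, map_mul, ← hM, hm, RingEquiv.symm_apply_apply]
  -- lifts
  let W : F → P := fun x => if x = 0 then 1 else L (σ.symm x)
  have hW : ∀ x, (W x : P ⧸ Z) = e (σ.symm x) := by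
    intro x
    show ((if x = 0 then (1 : P) else L (σ.symm x) : P) : P ⧸ Z) = e (σ.symm x)
    split
    · subst x; rw [map_zero, he0, QuotientGroup.mk_one]
    · exact hL _
  have hηmul : ∀ y y' : F, η (Multiplicative.ofAdd y) * η (Multiplicative.ofAdd y') =
      η (Multiplicative.ofAdd (y + y')) := fun y y' => by rw [← map_mul, ← ofAdd_add]
  have hηc : ∀ (y : F) (p : P), η (Multiplicative.ofAdd y) * p = p * η (Multiplicative.ofAdd y) :=
    fun y p => hcen _ (hηZ _) p
  have hηi : ∀ y y' : F, η (Multiplicative.ofAdd y) = η (Multiplicative.ofAdd y') → y = y' :=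
    fun y y' h => Multiplicative.ofAdd.injective (hηinj h)
  have hlift : ∀ (p : P) (x : F), (p : P ⧸ Z) = e (σ.symm x) →
      ∃ y : F, p = W x * η (Multiplicative.ofAdd y) := by
    intro p x h
    obtain ⟨y, hy⟩ := hηsurj _ (QuotientGroup.eq.mp ((hW x).trans h.symm))
    exact ⟨y.toAdd, by rw [ofAdd_toAdd, hy, mul_inv_cancel_left]⟩
  have hWsq : ∀ x, W x * W x = η (Multiplicative.ofAdd (pw φ x)) := by
    intro x
    rw [hsame (W x) (σ.symm x) (hW x), ← hQf, ← hg, pw, mul_comm]
  have hWW : ∀ x y, ∃ c : F, W x * W y = W (x + y) * η (Multiplicative.ofAdd c) := by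
    intro x y
    refine hlift _ _ ?_
    rw [QuotientGroup.mk_mul, hW, hW, ← headd, map_add]
  choose c hc using hWW
  have hW0 : W 0 = 1 := if_pos rfl
  have two := CharTwo.two_eq_zero (R := F)
  have hcdiag : ∀ x, c x x = pw φ x := fun x => hηi _ _ (by
    rw [← hWsq, hc, CharTwo.add_self_eq_zero, hW0, one_mul])
  have hcassoc : ∀ x y z, c x y + c (x + y) z = c y z + c x (y + z) := by
    intro x y z
    refine hηi _ _ (mul_left_cancel (a := W (x + y + z)) ?_)
    calc W (x + y + z) * η (Multiplicative.ofAdd (c x y + c (x + y) z))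
        = W (x + y + z) * η (Multiplicative.ofAdd (c (x + y) z)) * η (Multiplicative.ofAdd (c x y)) := by
          rw [mul_assoc, hηmul, add_comm (c x y) (c (x + y) z)]
      _ = W (x + y) * W z * η (Multiplicative.ofAdd (c x y)) := by rw [hc]
      _ = W x * W y * W z := by rw [hc x y, mul_assoc, ← hηc, ← mul_assoc]
      _ = W x * (W (y + z) * η (Multiplicative.ofAdd (c y z))) := by rw [mul_assoc, hc y z]
      _ = W (x + y + z) * η (Multiplicative.ofAdd (c x (y + z))) * η (Multiplicative.ofAdd (c y z)) := by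
          rw [← mul_assoc, hc, add_assoc x]
      _ = _ := by rw [mul_assoc, hηmul, add_comm (c x (y + z)) (c y z)]
  have hcsymm : ∀ x y, c x y + c y x = φ x * y + φ y * x := by
    intro x y
    have h1 : c x y + c y x + pw φ (x + y) = pw φ y + pw φ x := by
      refine hηi _ _ ?_
      calc η (Multiplicative.ofAdd (c x y + c y x + pw φ (x + y)))
          = η (Multiplicative.ofAdd (c x y)) * (η (Multiplicative.ofAdd (c y x)) * (W (x + y) * W (x + y))) := by
            rw [hWsq, hηmul, hηmul, add_assoc]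
        _ = W (x + y) * η (Multiplicative.ofAdd (c x y)) * (W (x + y) * η (Multiplicative.ofAdd (c y x))) := by
            rw [← mul_assoc (η _) (W _) (W _), hηc (c y x), mul_assoc (W (x + y)) (η _) (W _),
              hηc (c y x), ← mul_assoc, hηc (c x y)]
        _ = W x * W y * (W y * W x) := by
            rw [hc x y, hc y x, add_comm y x]
        _ = W x * (W y * W y) * W x := by group
        _ = η (Multiplicative.ofAdd (pw φ y + pw φ x)) := by
            rw [hWsq y, ← hηc, mul_assoc, hWsq, hηmul]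
    simp only [pw, map_add] at h1
    linear_combination h1 - (φ x * y + φ y * x) * two
  obtain ⟨D, hD⟩ := exists_coboundary (fun x y => c x y + φ x * y)
    (fun x y => by linear_combination hcsymm x y + (φ x * y - c y x) * two)
    (fun x => by rw [hcdiag, pw]; exact CharTwo.add_self_eq_zero _)
    (fun x y z => by simp only [map_add]; linear_combination hcassoc x y z)
  let V : F → P := fun x => W x * η (Multiplicative.ofAdd (D x))
  have hV : ∀ x y, V x * V y = V (x + y) * η (Multiplicative.ofAdd (φ x * y)) := by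
    intro x y
    show W x * η _ * (W y * η _) = W (x + y) * η _ * η _
    rw [← mul_assoc, mul_assoc (W x), hηc (D x) (W y), ← mul_assoc, hc x y, mul_assoc, mul_assoc,
      mul_assoc, hηmul, hηmul, hηmul]
    congr 2
    have h := hD x y
    refine congrArg Multiplicative.ofAdd ?_
    linear_combination h + (D x + D y - φ x * y) * two
  -- the automorphism on the lifts
  have hkV : ∀ x, ∃ a : F, k (V x) = V (g * x) * η (Multiplicative.ofAdd a) := by
    intro x
    have h1 : ((k (V x) : P) : P ⧸ Z) = e (σ.symm (g * x)) := by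
      rw [← hk'mk, map_mul, show σ.symm g = ρ from σ.symm_apply_apply ρ, hemul]
      congr 1
      show ((W x * η _ : P) : P ⧸ Z) = e (σ.symm x)
      rw [QuotientGroup.mk_mul, hW, (QuotientGroup.eq_one_iff _).mpr (hηZ _), mul_one]
    obtain ⟨y, hy⟩ := hlift _ _ h1
    exact ⟨y + D (g * x), by
      rw [hy]
      show _ = W (g * x) * η _ * η _
      rw [mul_assoc, hηmul, show D (g * x) + (y + D (g * x)) = y by
        linear_combination D (g * x) * two]⟩
  choose a ha using hkV
  have haadd : ∀ x y, a (x + y) = a x + a y := by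
    intro x y
    have h1 := congrArg k (hV x y)
    rw [map_mul k (V x) (V y), map_mul k (V (x + y)), ha, ha, ha, hkη] at h1
    have e1 : V (g * x) * η (Multiplicative.ofAdd (a x)) * (V (g * y) * η (Multiplicative.ofAdd (a y))) =
        V (g * (x + y)) * η (Multiplicative.ofAdd (φ (g * x) * (g * y) + (a x + a y))) := by
      rw [← hηmul, ← hηmul, mul_add, ← mul_assoc (V (g * (_ : F)) * η _), mul_assoc (V (g * x)),
        hηc (a x) (V (g * y)), ← mul_assoc (V (g * x)), hV]
      simp only [mul_assoc]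
    have e2 : V (g * (x + y)) * η (Multiplicative.ofAdd (a (x + y))) *
        η (Multiplicative.ofAdd (pw φ g * (φ x * y))) =
        V (g * (x + y)) * η (Multiplicative.ofAdd (a (x + y) + pw φ g * (φ x * y))) := by
      rw [mul_assoc, hηmul]
    rw [e1, e2] at h1
    have h2 := hηi _ _ (mul_left_cancel h1)
    simp only [pw, map_mul] at h2
    linear_combination -h2
  let T : (F →+ F) →+ (F →+ F) := AddMonoidHom.mk'
    (fun A => AddMonoidHom.mk' (fun x => A (g * x) + pw φ g * A x) fun x y => by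
      rw [mul_add, map_add, map_add]; ring)
    fun A B => AddMonoidHom.ext fun x => by
      simp only [AddMonoidHom.mk'_apply, AddMonoidHom.add_apply]; ring
  have hT : Function.Injective T := by
    rw [injective_iff_map_eq_zero]
    intro A hA
    have hA' : ∀ x, A (g * x) = pw φ g * A x := fun x =>
      CharTwo.add_eq_zero.mp (show A (g * x) + pw φ g * A x = 0 from DFunLike.congr_fun hA x)
    haveI : Finite (F ≃+* F) := Finite.of_injective _ DFunLike.coe_injective
    haveI : Fintype (F ≃+* F) := Fintype.ofFinite _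
    obtain ⟨d, hd⟩ := FieldAut.exists_coeff 2 A
    have hzero : ∀ μ, d μ * (μ g - pw φ g) = 0 := by
      refine fun μ => Fintype.linearIndependent_iff.mp (FieldAut.linearIndependent_aut (F := F))
        (fun μ => d μ * (μ g - pw φ g)) ?_ μ
      funext x
      simp only [Finset.sum_apply, Pi.smul_apply, smul_eq_mul, Pi.zero_apply, RingHom.coe_coe]
      have h1 := hA' x
      rw [hd, hd, Finset.mul_sum, ← sub_eq_zero, ← Finset.sum_sub_distrib] at h1
      rw [← h1]
      exact Finset.sum_congr rfl fun μ _ => by rw [map_mul]; ring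
    refine AddMonoidHom.ext fun x => ?_
    rw [hd]
    refine Finset.sum_eq_zero fun μ _ => ?_
    rcases mul_eq_zero.mp (hzero μ) with h | h
    · rw [h, zero_mul]
    · refine absurd (hgen.pair_eq (σ := φ) (τ := RingEquiv.refl F) (μ := μ) ?_) ?_
      · rw [sub_eq_zero.mp h]; rfl
      · intro he'
        refine hφne (RingEquiv.ext fun x => ?_)
        have h3 := RingEquiv.congr_fun he' (σ x)
        rw [hφ, RingEquiv.trans_apply, RingEquiv.symm_apply_apply] at h3
        exact h3.symm
  haveI : Finite (F →+ F) := Finite.of_injective _ DFunLike.coe_injective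
  obtain ⟨A, hA⟩ := Finite.surjective_of_injective hT (AddMonoidHom.mk' a haadd)
  have hA' : ∀ x, A (g * x) + pw φ g * A x = a x := fun x => DFunLike.congr_fun hA x
  refine ⟨F, iF, iFin, iC, φ, g, fun X => V X.1 * η (Multiplicative.ofAdd (X.2 + A X.1)), hcardF,
    ?_, ?_, hgen, ?_, hpw⟩
  · have hVx : ∀ x (y : F), ((V x * η (Multiplicative.ofAdd y) : P) : P ⧸ Z) = e (σ.symm x) := by
      intro x y
      show ((W x * η _ * η _ : P) : P ⧸ Z) = e (σ.symm x)
      rw [mul_assoc, hηmul, QuotientGroup.mk_mul, hW,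
        (QuotientGroup.eq_one_iff _).mpr (hηZ _), mul_one]
    refine ⟨fun X Y h => ?_, fun p => ?_⟩
    · have h1 : X.1 = Y.1 := σ.symm.injective (heinj (by
        rw [← hVx X.1 (X.2 + A X.1), ← hVx Y.1 (Y.2 + A Y.1)]
        exact congrArg (fun q : P => (q : P ⧸ Z)) h))
      simp only [h1] at h
      exact Prod.ext h1 (add_right_cancel (hηi _ _ (mul_left_cancel h)))
    · obtain ⟨u, hu⟩ := (herange _).mp (hQexp (p : P ⧸ Z))
      obtain ⟨y, hy⟩ := hlift p (σ u) (by rw [σ.symm_apply_apply, hu])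
      refine ⟨(σ u, y + D (σ u) + A (σ u)), ?_⟩
      show W (σ u) * η _ * η _ = p
      rw [mul_assoc, hηmul, hy, show D (σ u) + (y + D (σ u) + A (σ u) + A (σ u)) = y by
        linear_combination (D (σ u) + A (σ u)) * two]
  · intro X Y
    simp only [umul, map_add]
    rw [mul_assoc (V X.1), ← mul_assoc (η (Multiplicative.ofAdd (X.2 + A X.1))), hηc _ (V Y.1),
      mul_assoc (V Y.1), ← mul_assoc (V X.1), hV, hηmul, mul_assoc, hηmul]
    congr 3
    ring
  · intro X
    simp only [usc]
    rw [map_mul, ha, hkη, mul_assoc, hηmul, ← hA']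
    congr 3
    linear_combination (pw φ g * A X.1) * two

end Cfsg.Agent.Lib.SuzukiUniq
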