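import Mathlib
import Cfsg.Agent.Lib.SuzukiUniq.Ops

/-!
Coordinates for a Zassenhaus group whose kernel is a Suzuki 2-group of type A, and the rewriting
relation `τ u(X) τ = u(A) h(r) τ u(C)`.
-/

set_option autoImplicit false
set_option linter.unusedSectionVars false

namespace Cfsg.Agent.Lib.SuzukiUniq

open MulAction

variable {G Ω : Type*} [Group G] [MulAction G Ω]
variable {F : Type*} [Field F] [Fintype F] [CharP F 2]

/-- The coordinates. -/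
structure RawFrame (G Ω : Type*) [Group G] [MulAction G Ω] (F : Type*) [Field F] [Fintype F]
    (φ : F ≃+* F) where
  a : Ω
  b : Ω
  ne : a ≠ b
  u : F × F → G
  u_mul : ∀ X Y, u X * u Y = u (umul φ X Y)
  u_fix : ∀ X, u X • a = a
  u_reg : ∀ c, c ≠ a → ∃! X, u X • b = c
  hh : Fˣ →* G
  hh_fix : ∀ s, hh s • a = a ∧ hh s • b = b
  hh_all : ∀ g : G, g • a = a → g • b = b → ∃ s, hh s = g
  hh_inj : Function.Injective hh
  hh_conj : ∀ (s : Fˣ) X, hh s * u X = u (usc φ (s : F) X) * hh s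
  t : G
  t_a : t • a = b
  t_b : t • b = a
  t_sq : t * t = 1
  t_hh : ∀ s, t * hh s = hh s⁻¹ * t
  faithful : ∀ g : G, (∀ c : Ω, g • c = c) → g = 1
  pw_inj : ∀ s s' : F, s ≠ 0 → pw φ s = pw φ s' → s = s'

namespace RawFrame

variable {φ : F ≃+* F} (D : RawFrame G Ω F φ)

/-- `τ u(X) τ = u(A) h(r) τ u(C)`. -/
def Rw (X A : F × F) (r : Fˣ) (C : F × F) : Prop :=
  D.t * D.u X * D.t = D.u A * D.hh r * D.t * D.u C

theorem u_zero : D.u 0 = 1 := by
  have h := D.u_mul 0 0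
  rw [umul_zero] at h
  exact mul_eq_left.1 h

theorem u_inv (X : F × F) : (D.u X)⁻¹ = D.u (uinv φ X) :=
  inv_eq_of_mul_eq_one_right (by rw [D.u_mul, umul_uinv, u_zero])

theorem t_inv : D.t⁻¹ = D.t := inv_eq_of_mul_eq_one_right D.t_sq

theorem u_b_ne (X : F × F) : D.u X • D.b ≠ D.a := fun e =>
  D.ne (smul_left_cancel (D.u X) ((D.u_fix X).trans e.symm))

theorem u_b_inj {X Y : F × F} (h : D.u X • D.b = D.u Y • D.b) : X = Y :=
  (D.u_reg _ (D.u_b_ne X)).unique rfl h.symm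

theorem u_inj {X Y : F × F} (h : D.u X = D.u Y) : X = Y := D.u_b_inj (by rw [h])

theorem u_hh (s : Fˣ) (X : F × F) : D.u X * D.hh s = D.hh s * D.u (usc φ ((s⁻¹ : Fˣ) : F) X) := by
  rw [D.hh_conj, usc_usc, Units.mul_inv, usc_one]

theorem exists_of_fix {g : G} (h : g • D.a = D.a) : ∃ X s, g = D.u X * D.hh s := by
  have hb : g • D.b ≠ D.a := fun e => D.ne (smul_left_cancel g (h.trans e.symm))
  obtain ⟨X, hX, -⟩ := D.u_reg _ hb
  obtain ⟨s, hs⟩ := D.hh_all ((D.u X)⁻¹ * g)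
    (by rw [mul_smul, h, inv_smul_eq_iff, D.u_fix]) (by rw [mul_smul, inv_smul_eq_iff, hX])
  exact ⟨X, s, by rw [hs, mul_inv_cancel_left]⟩

theorem big_a (A C : F × F) (r : Fˣ) :
    (D.u A * D.hh r * D.t * D.u C) • D.a = D.u A • D.b := by
  rw [mul_smul, mul_smul, mul_smul, D.u_fix, D.t_a, (D.hh_fix r).2]

theorem big_unique {A A' C C' : F × F} {r r' : Fˣ}
    (h : D.u A * D.hh r * D.t * D.u C = D.u A' * D.hh r' * D.t * D.u C') :
    A = A' ∧ r = r' ∧ C = C' := by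
  obtain rfl : A = A' := D.u_b_inj (by rw [← D.big_a A C r, h, D.big_a])
  rw [mul_assoc, mul_assoc, mul_assoc, mul_assoc] at h
  have h1 : D.t * (D.hh r'⁻¹ * D.hh r) * D.t * D.u C = D.u C' := by
    have h' := mul_left_cancel h
    calc D.t * (D.hh r'⁻¹ * D.hh r) * D.t * D.u C
        = D.t * D.hh r'⁻¹ * (D.hh r * (D.t * D.u C)) := by group
      _ = D.t * D.hh r'⁻¹ * (D.hh r' * (D.t * D.u C')) := by rw [h']
      _ = D.t * (D.hh r'⁻¹ * D.hh r') * D.t * D.u C' := by group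
      _ = D.u C' := by rw [← map_mul, inv_mul_cancel, map_one, mul_one, D.t_sq, one_mul]
  rw [← map_mul, D.t_hh, mul_assoc (D.hh _) D.t D.t, D.t_sq, mul_one] at h1
  have hC : C' = usc φ (((r'⁻¹ * r)⁻¹ : Fˣ) : F) C := D.u_b_inj (by
    rw [← h1, D.hh_conj, mul_smul, (D.hh_fix _).2])
  rw [D.hh_conj, ← hC] at h1
  have hr : (r'⁻¹ * r)⁻¹ = 1 := D.hh_inj (by rw [map_one]; exact mul_eq_left.1 h1)
  rw [hr, Units.val_one, usc_one] at hC
  rw [inv_eq_one, inv_mul_eq_one] at hr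
  exact ⟨rfl, hr.symm, hC.symm⟩

theorem rw_unique {X A A' C C' : F × F} {r r' : Fˣ} (h : D.Rw X A r C) (h' : D.Rw X A' r' C') :
    A = A' ∧ r = r' ∧ C = C' := D.big_unique (h.symm.trans h')

theorem rw_inv {X A C : F × F} {r : Fˣ} (h : D.Rw X A r C) :
    D.Rw (uinv φ X) (uinv φ C) r (uinv φ A) := by
  have h' : (D.t * D.u X * D.t)⁻¹ = (D.u A * D.hh r * D.t * D.u C)⁻¹ := congrArg _ h
  rw [mul_inv_rev, mul_inv_rev, D.u_inv, D.t_inv, mul_inv_rev, mul_inv_rev, mul_inv_rev, D.u_inv,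
    D.u_inv, D.t_inv, ← map_inv] at h'
  show D.t * D.u _ * D.t = _
  rw [mul_assoc, h']
  calc D.u (uinv φ C) * (D.t * (D.hh r⁻¹ * D.u (uinv φ A)))
      = D.u (uinv φ C) * ((D.t * D.hh r⁻¹) * D.u (uinv φ A)) := by group
    _ = D.u (uinv φ C) * D.hh r * D.t * D.u (uinv φ A) := by rw [D.t_hh, inv_inv]; group

theorem rw_scale {X A C : F × F} {r : Fˣ} (h : D.Rw X A r C) (s : Fˣ) :
    D.Rw (usc φ (s : F) X) (usc φ ((s⁻¹ : Fˣ) : F) A) (r * (s * s)⁻¹)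
      (usc φ ((s⁻¹ : Fˣ) : F) C) := by
  show D.t * D.u _ * D.t = _
  have e1 : D.u (usc φ (s : F) X) = D.hh s * D.u X * D.hh s⁻¹ := by
    rw [D.hh_conj, mul_assoc, ← map_mul, mul_inv_cancel, map_one, mul_one]
  have e2 : D.hh s⁻¹ * D.t = D.t * D.hh s := (D.t_hh s).symm
  calc D.t * D.u (usc φ (s : F) X) * D.t
      = (D.t * D.hh s) * D.u X * (D.hh s⁻¹ * D.t) := by rw [e1]; group
    _ = (D.hh s⁻¹ * D.t) * D.u X * (D.t * D.hh s) := by rw [e2]
    _ = D.hh s⁻¹ * (D.t * D.u X * D.t) * D.hh s := by group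
    _ = D.hh s⁻¹ * D.u A * D.hh r * D.t * (D.u C * D.hh s) := by
        rw [h]; group
    _ = D.u (usc φ ((s⁻¹ : Fˣ) : F) A) * (D.hh s⁻¹ * D.hh r) * (D.t * D.hh s) *
          D.u (usc φ ((s⁻¹ : Fˣ) : F) C) := by rw [D.hh_conj s⁻¹ A, D.u_hh s C]; group
    _ = D.u (usc φ ((s⁻¹ : Fˣ) : F) A) * (D.hh s⁻¹ * D.hh r * D.hh s⁻¹) * D.t *
          D.u (usc φ ((s⁻¹ : Fˣ) : F) C) := by rw [D.t_hh]; group
    _ = _ := by rw [← map_mul, ← map_mul]; congr 3; rw [mul_inv_rev]; ac_rfl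

/-- Composition of two relations. -/
theorem rw_mul {X Y A C A' C' : F × F} {r r' : Fˣ} (h : D.Rw X A r C) (h' : D.Rw Y A' r' C') :
    D.t * D.u (umul φ X Y) * D.t =
      D.u A * D.hh r * (D.t * D.u (umul φ C A') * D.t) * D.hh r'⁻¹ * D.u C' := by
  calc D.t * D.u (umul φ X Y) * D.t = (D.t * D.u X * D.t) * (D.t * D.u Y * D.t) := by
        rw [← D.u_mul]
        calc D.t * (D.u X * D.u Y) * D.t = D.t * D.u X * 1 * D.u Y * D.t := by group
          _ = _ := by rw [← D.t_sq]; group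
    _ = D.u A * D.hh r * D.t * (D.u C * D.u A') * (D.hh r' * D.t) * D.u C' := by
        rw [h, h']; group
    _ = _ := by
        rw [D.u_mul, show D.hh r' * D.t = D.t * D.hh r'⁻¹ by rw [D.t_hh, inv_inv]]
        group

end RawFrame

end Cfsg.Agent.Lib.SuzukiUniq
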