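import Mathlib
import Cfsg.Agent.Lib.SuzukiUniq.Frame

/-!
Normalisation of the coordinates: `τ u(0,1) τ = u(1,b)⁻¹ τ u(1,b)`.
-/

set_option autoImplicit false
set_option linter.unusedSectionVars false

namespace Cfsg.Agent.Lib.SuzukiUniq

open MulAction

variable {G Ω : Type*} [Group G] [MulAction G Ω]
variable {F : Type*} [Field F] [Fintype F] [CharP F 2]
variable {φ : F ≃+* F}

namespace RawFrame

variable (D : RawFrame G Ω F φ)
include D

theorem u_ne_one {X : F × F} (h : X ≠ 0) : D.u X ≠ 1 :=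
  fun e => h (D.u_inj (e.trans D.u_zero.symm))

theorem card_points : Nat.card Ω = Fintype.card F ^ 2 + 1 := by
  classical
  let e : Option (F × F) → Ω := fun o => o.elim D.a fun X => D.u X • D.b
  have he : Function.Bijective e := by
    refine ⟨?_, fun c => ?_⟩
    · rintro (_ | X) (_ | Y) h
      · rfl
      · exact absurd h.symm (D.u_b_ne Y)
      · exact absurd h (D.u_b_ne X)
      · exact congrArg some (D.u_b_inj h)
    · by_cases hc : c = D.a
      · exact ⟨none, hc.symm⟩
      · exact ⟨some _, (D.u_reg c hc).exists.choose_spec⟩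
  rw [← Nat.card_eq_of_bijective e he, Finite.card_option, Nat.card_prod, Nat.card_eq_fintype_card,
    pow_two]

theorem pretransitive : IsPretransitive G Ω := by
  have key : ∀ c : Ω, ∃ g : G, g • D.a = c := by
    intro c
    by_cases hc : c = D.a
    · exact ⟨1, by rw [one_smul, hc]⟩
    · obtain ⟨X, hX, -⟩ := D.u_reg c hc
      exact ⟨D.u X * D.t, by rw [mul_smul, D.t_a, hX]⟩
  refine ⟨fun c d => ?_⟩
  obtain ⟨g, rfl⟩ := key c
  obtain ⟨g', rfl⟩ := key d
  exact ⟨g' * g⁻¹, by rw [mul_smul, inv_smul_smul]⟩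

theorem card_stab :
    Nat.card (stabilizer G D.a) = Fintype.card F ^ 2 * (Fintype.card F - 1) := by
  classical
  let f : (F × F) × Fˣ → stabilizer G D.a := fun p =>
    ⟨D.u p.1 * D.hh p.2, by rw [mem_stabilizer_iff, mul_smul, (D.hh_fix _).1, D.u_fix]⟩
  have hf : Function.Bijective f := by
    refine ⟨fun p p' h => ?_, fun g => ?_⟩
    · have h' : D.u p.1 * D.hh p.2 = D.u p'.1 * D.hh p'.2 := congrArg Subtype.val h
      have h1 : p.1 = p'.1 := D.u_b_inj (by
        have := congrArg (· • D.b) h'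
        simpa [mul_smul, (D.hh_fix p.2).2, (D.hh_fix p'.2).2] using this)
      rw [h1] at h'
      exact Prod.ext h1 (D.hh_inj (mul_left_cancel h'))
    · obtain ⟨X, s, hg⟩ := D.exists_of_fix g.2
      exact ⟨(X, s), Subtype.ext hg.symm⟩
  rw [← Nat.card_eq_of_bijective f hf, Nat.card_prod, Nat.card_prod, Nat.card_eq_fintype_card,
    Nat.card_eq_fintype_card, Fintype.card_units, pow_two]

theorem card_group : Nat.card G =
    (Fintype.card F ^ 2 + 1) * (Fintype.card F ^ 2 * (Fintype.card F - 1)) := by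
  haveI := D.pretransitive
  rw [← D.card_points, ← D.card_stab, ← index_stabilizer_of_transitive G D.a,
    Subgroup.index_mul_card]

/-- Change of scale. -/
def rescale (c : Fˣ) : RawFrame G Ω F φ where
  a := D.a
  b := D.b
  ne := D.ne
  u X := D.u (usc φ (c : F) X)
  u_mul X Y := by rw [D.u_mul, usc_umul]
  u_fix _ := D.u_fix _
  u_reg x hx := by
    obtain ⟨X, hX, huniq⟩ := D.u_reg x hx
    refine ⟨usc φ ((c⁻¹ : Fˣ) : F) X, ?_, fun Y hY => ?_⟩
    · show D.u _ • D.b = x
      rw [usc_usc, Units.mul_inv, usc_one, hX]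
    · rw [← huniq _ hY, usc_usc, Units.inv_mul, usc_one]
  hh := D.hh
  hh_fix := D.hh_fix
  hh_all := D.hh_all
  hh_inj := D.hh_inj
  hh_conj s X := by rw [D.hh_conj, usc_usc, usc_usc, mul_comm]
  t := D.t
  t_a := D.t_a
  t_b := D.t_b
  t_sq := D.t_sq
  t_hh := D.t_hh
  faithful := D.faithful
  pw_inj := D.pw_inj

theorem rw_rescale {c : Fˣ} {X A C : F × F} {r : Fˣ}
    (h : D.Rw (usc φ (c : F) X) (usc φ (c : F) A) r (usc φ (c : F) C)) :
    (D.rescale c).Rw X A r C := h

/-- An involution fixing `a` lies in the kernel, in the centre. -/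
theorem exists_central {g : G} (hga : g • D.a = D.a) (hg : g * g = 1) :
    ∃ y : F, g = D.u (0, y) := by
  obtain ⟨X, s, rfl⟩ := D.exists_of_fix hga
  have h1 : D.u (umul φ X (usc φ (s : F) X)) * D.hh (s * s) = 1 := by
    rw [← D.u_mul, map_mul, mul_assoc (D.u X), ← mul_assoc (D.u (usc φ (s : F) X)), ← D.hh_conj]
    calc D.u X * (D.hh s * D.u X * D.hh s) = D.u X * D.hh s * (D.u X * D.hh s) := by group
      _ = 1 := hg
  have hX : umul φ X (usc φ (s : F) X) = 0 := D.u_b_inj (by
    have := congrArg (· • D.b) h1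
    simpa [mul_smul, (D.hh_fix (s * s)).2, D.u_zero, -map_mul] using this)
  rw [hX, D.u_zero, one_mul] at h1
  have hs : s = 1 := by
    have h2 : ((s : F) - 1) * ((s : F) - 1) = 0 := by
      have h3 : (s : F) * s = 1 := by
        rw [← Units.val_mul, D.hh_inj (h1.trans D.hh.map_one.symm), Units.val_one]
      linear_combination h3 - ((s : F) - 1) * CharTwo.two_eq_zero (R := F)
    exact Units.ext (sub_eq_zero.1 (mul_self_eq_zero.1 h2))
  subst hs
  rw [map_one, mul_one]
  rw [Units.val_one, usc_one] at hX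
  refine ⟨X.2, congrArg D.u (Prod.ext ?_ rfl)⟩
  have h4 := congrArg Prod.snd hX
  simp only [umul, Prod.snd_zero] at h4
  by_contra h5
  refine pw_ne_zero φ h5 ?_
  show φ X.1 * X.1 = 0
  linear_combination h4 - X.2 * CharTwo.two_eq_zero (R := F)

/-- The normalised relation. -/
def Normal (β : F) : Prop := D.Rw (0, 1) (uinv φ (1, β)) 1 (1, β)

theorem rw_w {w z : F × F} (h : D.Rw z (uinv φ w) 1 w) : D.Rw w w 1 z := by
  have h' : D.t * D.u z * D.t = (D.u w)⁻¹ * D.t * D.u w := by
    rw [show D.t * D.u z * D.t = _ from h, map_one, mul_one, D.u_inv]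
  show D.t * D.u w * D.t = _
  rw [map_one, mul_one]
  calc D.t * D.u w * D.t = D.u w * ((D.u w)⁻¹ * D.t * D.u w) * D.t := by group
    _ = D.u w * (D.t * D.u z) * (D.t * D.t) := by rw [← h']; group
    _ = D.u w * D.t * D.u z := by rw [D.t_sq]; group

theorem exists_normal {n : ℕ} (hn : Odd n) (hF : Fintype.card F = 2 ^ n) :
    ∃ (D' : RawFrame G Ω F φ) (β : F), D'.Normal β := by
  classical
  haveI : Finite Ω := Nat.finite_of_card_ne_zero (by rw [D.card_points]; omega)
  haveI : Finite G := Nat.finite_of_card_ne_zero (by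
    rw [D.card_group]
    have := Fintype.one_lt_card (α := F)
    exact Nat.mul_ne_zero (by omega) (Nat.mul_ne_zero (pow_ne_zero _ (by omega)) (by omega)))
  -- a fixed point of `τ`
  obtain ⟨c, hc⟩ : ∃ c : Ω, D.t • c = c := by
    letI := Fintype.ofFinite Ω
    by_contra hno
    push Not at hno
    have hodd : Odd (Fintype.card Ω) := by
      rw [← Nat.card_eq_fintype_card, D.card_points, Nat.odd_add_one, Nat.not_odd_iff_even,
        Nat.even_pow]
      exact ⟨by rw [hF, Nat.even_pow]; exact ⟨even_two, by rintro rfl; simp at hn⟩, two_ne_zero⟩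
    obtain ⟨k, hk⟩ := hodd
    let σ : Function.End Ω := fun x => D.t • x
    have h1 : σ ^ 2 = 1 := by
      funext x
      show D.t • D.t • x = x
      rw [smul_smul, D.t_sq, one_smul]
    have h2 := Equiv.Perm.card_fixedPoints_modEq (p := 2) (n := 1) (f := σ) (by rwa [pow_one])
    have h3 : Fintype.card (Function.fixedPoints (σ : Ω → Ω)) = 0 :=
      Fintype.card_eq_zero_iff.2 ⟨fun x => hno x.1 x.2⟩
    rw [h3, Nat.ModEq] at h2
    omega
  have hca : c ≠ D.a := fun e => D.ne (by rw [← D.t_a, ← e, hc])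
  obtain ⟨w, hw, -⟩ := D.u_reg c hca
  obtain ⟨y, hy⟩ := D.exists_central (g := D.t * ((D.u w)⁻¹ * D.t * D.u w) * D.t) (by
    rw [mul_smul, mul_smul, D.t_a, mul_smul, mul_smul, hw, hc, ← hw, inv_smul_smul, D.t_b]) (by
    have tt : ∀ x : G, D.t * (D.t * x) = x := fun x => by rw [← mul_assoc, D.t_sq, one_mul]
    simp [mul_assoc, tt, D.t_sq])
  have hR : D.Rw (0, y) (uinv φ w) 1 w := by
    show D.t * D.u (0, y) * D.t = _
    rw [← hy, map_one, mul_one, ← D.u_inv]
    calc D.t * (D.t * ((D.u w)⁻¹ * D.t * D.u w) * D.t) * D.t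
        = (D.t * D.t) * ((D.u w)⁻¹ * D.t * D.u w) * (D.t * D.t) := by group
      _ = (D.u w)⁻¹ * D.t * D.u w := by rw [D.t_sq, one_mul, mul_one]
  -- `w` is not central
  have hw1 : w.1 ≠ 0 := by
    intro h0
    have hwinv : uinv φ w = w := by
      refine Prod.ext rfl ?_
      show w.2 + φ w.1 * w.1 = w.2
      rw [h0, mul_zero, add_zero]
    have hz : w = (0, y) := by
      have hRw := D.rw_w hR
      have hRi := D.rw_inv hRw
      rw [hwinv] at hRi
      obtain ⟨h1, -, -⟩ := D.rw_unique hRw hRi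
      rw [h1]
      refine Prod.ext rfl ?_
      show y + φ 0 * 0 = y
      rw [mul_zero, add_zero]
    have hzz : D.u w * D.u w = 1 := by
      conv_lhs => arg 2; rw [← hwinv]
      rw [D.u_mul, umul_uinv, D.u_zero]
    have hR' : D.t * D.u w * D.t = D.u w * D.t * D.u w := by
      have : D.Rw w w 1 w := by
        rw [← hz, hwinv] at hR
        exact hR
      rw [show D.t * D.u w * D.t = _ from this, map_one, mul_one]
    have h3 : (D.t * D.u w) ^ 3 = 1 := by
      calc (D.t * D.u w) ^ 3 = (D.t * D.u w * D.t) * (D.u w * D.t * D.u w) := by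
            simp only [pow_succ, pow_zero, one_mul, mul_assoc]
        _ = D.u w * D.t * (D.u w * D.u w) * D.t * D.u w := by rw [hR']; group
        _ = 1 := by rw [hzz, mul_one, mul_assoc (D.u w) D.t D.t, D.t_sq, mul_one, hzz]
    have hne : D.t * D.u w ≠ 1 := fun e => D.ne (by
      have := congrArg (· • D.a) e
      simp only [mul_smul, D.u_fix, D.t_a, one_smul] at this
      exact this.symm)
    haveI : Fact (Nat.Prime 3) := ⟨Nat.prime_three⟩
    have h4 : 3 ∣ Nat.card G := (orderOf_eq_prime h3 hne) ▸ orderOf_dvd_natCard (D.t * D.u w)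
    rw [D.card_group, hF] at h4
    obtain ⟨k, rfl⟩ := hn
    have hq : 2 ^ (2 * k + 1) % 3 = 2 := by
      rw [pow_succ, pow_mul, Nat.mul_mod, Nat.pow_mod]
      norm_num
    obtain ⟨j, hj⟩ : ∃ j, 2 ^ (2 * k + 1) = 3 * j + 2 := ⟨2 ^ (2 * k + 1) / 3, by omega⟩
    rw [hj] at h4
    rcases Nat.prime_three.dvd_mul.1 h4 with h5 | h5
    · ring_nf at h5
      omega
    rcases Nat.prime_three.dvd_mul.1 h5 with h6 | h6
    · have := Nat.prime_three.dvd_of_dvd_pow h6
      omega
    · omega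
  -- rescale so that `w` has first coordinate one
  set c' : Fˣ := Units.mk0 w.1 hw1
  have hc1 : (c' : F) = w.1 := rfl
  let wn : F × F := usc φ ((c'⁻¹ : Fˣ) : F) w
  let zn : F × F := usc φ ((c'⁻¹ : Fˣ) : F) (0, y)
  have hR' : (D.rescale c').Rw zn (uinv φ wn) 1 wn := D.rw_rescale (by
    simp only [wn, zn, ← usc_uinv, usc_usc, Units.mul_inv, usc_one]
    exact hR)
  obtain ⟨β, hwn⟩ : ∃ β, wn = (1, β) := ⟨wn.2, Prod.ext (by
    simp [wn, usc, hc1, inv_mul_cancel₀ hw1]) rfl⟩
  obtain ⟨ζ, hzn⟩ : ∃ ζ, zn = (0, ζ) := ⟨zn.2, Prod.ext (by simp [zn, usc]) rfl⟩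
  rw [hwn, hzn] at hR'
  refine ⟨D.rescale c', β, ?_⟩
  set E := D.rescale c'
  suffices hζ : ζ = 1 by rwa [hζ] at hR'
  have hζ0 : ζ ≠ 0 := by
    rintro rfl
    have h0 : E.t * E.u 0 * E.t = _ := hR'
    rw [E.u_zero, mul_one, E.t_sq, map_one, mul_one] at h0
    apply E.ne
    have := congrArg (· • E.a) h0
    simp only [mul_smul, E.u_fix, E.t_a, one_smul] at this
    by_contra hne
    exact E.u_b_ne _ this.symm
  -- the power of `ζ`
  obtain ⟨t, ht0, htp⟩ : ∃ t : F, t ≠ 0 ∧ pw φ t = ζ := by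
    have hinj : Function.Injective (pw φ) := by
      intro s s' h
      by_cases hs : s = 0
      · subst hs
        by_contra hs'
        rw [pw_zero] at h
        exact pw_ne_zero φ (Ne.symm hs') h.symm
      · exact D.pw_inj s s' hs h
    obtain ⟨t, ht⟩ := Finite.surjective_of_injective hinj ζ
    exact ⟨t, fun h => hζ0 (by rw [← ht, h, pw_zero]), ht⟩
  set T : Fˣ := Units.mk0 t ht0
  have hT : ((T⁻¹ : Fˣ) : F) = t⁻¹ := by simp [T]
  have hW := E.rw_w hR'
  -- `(0,1)` rewritten in two ways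
  have hone : E.Rw (0, 1) (usc φ t (uinv φ (1, β))) (T * T) (usc φ t (1, β)) := by
    have h := E.rw_scale hR' T⁻¹
    rw [inv_inv, one_mul, mul_inv_rev, inv_inv, hT] at h
    have e : usc φ t⁻¹ ((0 : F), ζ) = (0, 1) := by
      simp [usc, pw_inv, htp, inv_mul_cancel₀ hζ0]
    rwa [e] at h
  -- `z w` in two ways
  set iw : F × F := uinv φ (1, β) with hiw
  have hzw : E.Rw (umul φ (0, ζ) (1, β)) (umul φ iw (usc φ t iw)) (T * T)
      (umul φ (usc φ t (1, β)) (0, ζ)) := by
    have e : umul φ (1, β) (1, β) = ((0, 1) : F × F) := by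
      refine Prod.ext ?_ ?_ <;> simp only [umul, map_one]
      · exact CharTwo.add_self_eq_zero _
      · linear_combination β * CharTwo.two_eq_zero (R := F)
    show E.t * E.u _ * E.t = _
    rw [E.rw_mul hR' hW, inv_one, map_one, mul_one, mul_one, e,
      show E.t * E.u ((0 : F), 1) * E.t = _ from hone, ← E.u_mul, ← E.u_mul]
    group
  have hzw2 : E.Rw (umul φ (0, ζ) iw) (umul φ (umul φ iw (umul φ iw (usc φ t iw))) 0) (T * T)
      (umul φ (umul φ (usc φ t (1, β)) (0, ζ)) iw) := by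
    have e : umul φ (1, β) (0, ζ) = umul φ (0, ζ) (1, β) := by
      refine Prod.ext ?_ ?_ <;> simp [umul] <;> ring
    have hiR : E.Rw iw (uinv φ (0, ζ)) 1 iw := E.rw_inv hW
    have e' : uinv φ ((0 : F), ζ) = (0, ζ) := by simp [uinv]
    show E.t * E.u _ * E.t = _
    rw [E.rw_mul hR' hiR, inv_one, map_one, mul_one, mul_one, e', e,
      show E.t * E.u (umul φ (0, ζ) (1, β)) * E.t = _ from hzw, umul_zero]
    simp only [← E.u_mul]
    group
  have hinvX : uinv φ (umul φ (0, ζ) (1, β)) = umul φ (0, ζ) iw := by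
    refine Prod.ext ?_ ?_ <;> simp [umul, uinv, hiw] <;> ring
  have hA := (E.rw_unique (hinvX ▸ E.rw_inv hzw) hzw2).1
  have h2 := congrArg Prod.snd hA
  simp only [umul, uinv, usc, hiw, map_one, mul_zero, add_zero, Prod.snd_zero, mul_one,
    map_add, Prod.fst_zero, mul_zero, add_zero] at h2
  rw [htp] at h2
  have hφt : φ t * t = ζ := htp
  linear_combination h2 - hφt + (1 + β + t) * CharTwo.two_eq_zero (R := F)

end RawFrame

end Cfsg.Agent.Lib.SuzukiUniq
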