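import Mathlib
import Cfsg.Agent.Lib.SuzukiUniq.Normal

/-!
The normalised relation determines the rewriting, and forces the field automorphism.
-/

set_option autoImplicit false
set_option linter.unusedSectionVars false

namespace Cfsg.Agent.Lib.SuzukiUniq

open MulAction

variable {G Ω : Type*} [Group G] [MulAction G Ω]
variable {F : Type*} [Field F] [Fintype F] [CharP F 2]
variable {φ : F ≃+* F}

namespace RawFrame

variable (D : RawFrame G Ω F φ) {β : F}
include D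

theorem pw_injective : Function.Injective (pw φ) := by
  intro s s' h
  by_cases hs : s = 0
  · subst hs
    by_contra hs'
    rw [pw_zero] at h
    exact pw_ne_zero φ (Ne.symm hs') h.symm
  · exact D.pw_inj s s' hs h

theorem pw_surjective : Function.Surjective (pw φ) := Finite.surjective_of_injective D.pw_injective

theorem exists_unit_pw {y : F} (hy : y ≠ 0) : ∃ s : Fˣ, pw φ (s : F) = y := by
  obtain ⟨s, hs⟩ := D.pw_surjective y
  exact ⟨Units.mk0 s (fun h => hy (by rw [← hs, h, pw_zero])), by simpa using hs⟩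

/-- The relation on the centre. -/
theorem rw_centre (h : D.Normal β) (t : Fˣ) :
    D.Rw (0, (pw φ (t : F))⁻¹) (uinv φ (wpt φ β t)) (t * t) (wpt φ β t) := by
  have hs := D.rw_scale h t⁻¹
  rw [inv_inv, one_mul, mul_inv_rev, inv_inv] at hs
  have e1 : usc φ ((t⁻¹ : Fˣ) : F) ((0 : F), (1 : F)) = (0, (pw φ (t : F))⁻¹) := by
    simp [usc, pw_inv]
  have e2 : usc φ (t : F) ((1 : F), β) = wpt φ β t := by simp [usc, wpt, mul_comm]
  rw [e1, usc_uinv, e2] at hs
  exact hs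

theorem rw_wpt (h : D.Normal β) (t : Fˣ) :
    D.Rw (wpt φ β t) (wpt φ β ((t⁻¹ : Fˣ) : F)) (t * t)⁻¹
      (0, pw φ ((t⁻¹ : Fˣ) : F)) := by
  have hs := D.rw_scale (D.rw_w h) t
  rw [one_mul] at hs
  have e2 : ∀ r : F, usc φ r ((1 : F), β) = wpt φ β r := fun r => by
    simp [usc, wpt, mul_comm]
  rw [e2, e2] at hs
  simpa [usc] using hs

theorem rw_fam (h : D.Normal β) {t₁ t₂ t₃ : Fˣ}
    (he : (pw φ (t₁ : F))⁻¹ + (pw φ (t₂ : F))⁻¹ = (pw φ (t₃ : F))⁻¹) :
    D.Rw (fam φ β t₁ t₂) (usc φ (((t₁ * t₁)⁻¹ : Fˣ) : F) (fam φ β t₁ t₃))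
      ((t₁ * t₁)⁻¹ * (t₃ * t₃) * (t₂ * t₂)⁻¹)
      (usc φ (((t₂ * t₂)⁻¹ : Fˣ) : F) (fam φ β t₃ t₂)) := by
  have h1 := D.rw_centre h t₁
  have h2 := D.rw_centre h t₂
  have h3 := D.rw_centre h t₃
  have hm := D.rw_mul h1 h2
  have e : umul φ ((0 : F), (pw φ (t₁ : F))⁻¹) (0, (pw φ (t₂ : F))⁻¹) =
      (0, (pw φ (t₃ : F))⁻¹) := by simp [umul, he]
  rw [e, show D.t * D.u ((0 : F), (pw φ (t₃ : F))⁻¹) * D.t = _ from h3] at hm
  show D.t * D.u _ * D.t = _
  set r₁ := t₁ * t₁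
  set r₂ := t₂ * t₂
  set r₃ := t₃ * t₃
  have hm' : D.t * D.u (fam φ β t₁ t₂) * D.t =
      D.hh r₁⁻¹ * D.u (fam φ β t₁ t₃) * D.hh r₃ * D.t * (D.u (fam φ β t₃ t₂) * D.hh r₂) := by
    have e1 : ∀ x y : F, D.u (fam φ β x y) = D.u (wpt φ β x) * (D.u (wpt φ β y))⁻¹ := fun x y => by
      rw [D.u_inv, D.u_mul]; rfl
    rw [e1 (t₁ : F) t₃, e1 (t₃ : F) t₂]
    simp only [← D.u_inv] at hm
    rw [map_inv] at hm
    rw [show D.u (fam φ β t₁ t₂) = D.u (wpt φ β t₁) * (D.u (wpt φ β t₂))⁻¹ from e1 _ _,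
      map_inv]
    calc D.t * (D.u (wpt φ β t₁) * (D.u (wpt φ β t₂))⁻¹) * D.t
        = (D.hh r₁)⁻¹ * D.u (wpt φ β t₁) * ((D.u (wpt φ β t₃))⁻¹ * D.hh r₃ * D.t *
            D.u (wpt φ β t₃)) * (D.u (wpt φ β t₂))⁻¹ * D.hh r₂ := by
          rw [hm, D.u_inv (wpt φ β t₂), D.u_mul]
          simp only [← D.u_mul, ← D.u_inv]
          group
      _ = _ := by group
  rw [hm', D.hh_conj, D.u_hh r₂ (fam φ β t₃ t₂)]
  calc D.u (usc φ ((r₁⁻¹ : Fˣ) : F) (fam φ β t₁ t₃)) * D.hh r₁⁻¹ * D.hh r₃ * D.t *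
        (D.hh r₂ * D.u (usc φ ((r₂⁻¹ : Fˣ) : F) (fam φ β t₃ t₂)))
      = D.u (usc φ ((r₁⁻¹ : Fˣ) : F) (fam φ β t₁ t₃)) * (D.hh r₁⁻¹ * D.hh r₃) * (D.t * D.hh r₂) *
          D.u (usc φ ((r₂⁻¹ : Fˣ) : F) (fam φ β t₃ t₂)) := by group
    _ = _ := by rw [D.t_hh]; simp only [map_mul, r₁, r₂, r₃]; group

theorem exists_third {t₁ t₂ : Fˣ} (hne : t₁ ≠ t₂) :
    ∃ t₃ : Fˣ, (pw φ (t₁ : F))⁻¹ + (pw φ (t₂ : F))⁻¹ = (pw φ (t₃ : F))⁻¹ := by
  have h0 : (pw φ (t₁ : F))⁻¹ + (pw φ (t₂ : F))⁻¹ ≠ 0 := fun e => hne (Units.ext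
    (D.pw_injective (inv_injective (CharTwo.add_eq_zero.1 e))))
  obtain ⟨s, hs⟩ := D.exists_unit_pw h0
  exact ⟨s⁻¹, by rw [Units.val_inv_eq_inv_val, pw_inv, inv_inv, hs]⟩

/-- The torus component on the family. -/
theorem rw_norm (h : D.Normal β) {t₁ t₂ : F} (hne : t₁ ≠ t₂) :
    ∃ A r C, D.Rw (fam φ β t₁ t₂) A r C ∧ pw φ (r : F) * (pw φ t₁ + pw φ t₂) ^ 2 = 1 := by
  by_cases h1 : t₁ = 0
  · obtain ⟨T, rfl⟩ : ∃ T : Fˣ, (T : F) = t₂ := ⟨Units.mk0 t₂ (fun e => hne (h1.trans e.symm)), rfl⟩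
    have e : fam φ β t₁ (T : F) = uinv φ (wpt φ β T) := by
      rw [h1, fam, show wpt φ β (0 : F) = 0 by simp [wpt, pw_zero], zero_umul]
    have hR := D.rw_inv (D.rw_wpt h T)
    rw [← e] at hR
    refine ⟨_, _, _, hR, ?_⟩
    rw [h1, pw_zero, zero_add, Units.val_inv_eq_inv_val, Units.val_mul, pw_inv, pw_sq,
        inv_mul_cancel₀ (pow_ne_zero _ (pw_ne_zero φ T.ne_zero))]
  by_cases h2 : t₂ = 0
  · obtain ⟨T, rfl⟩ : ∃ T : Fˣ, (T : F) = t₁ := ⟨Units.mk0 t₁ h1, rfl⟩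
    have e : fam φ β (T : F) t₂ = wpt φ β T := by
      rw [h2, fam, show wpt φ β (0 : F) = 0 by simp [wpt, pw_zero],
        show uinv φ (0 : F × F) = 0 by simp [uinv], umul_zero]
    have hR := D.rw_wpt h T
    rw [← e] at hR
    refine ⟨_, _, _, hR, ?_⟩
    rw [h2, pw_zero, add_zero, Units.val_inv_eq_inv_val, Units.val_mul, pw_inv, pw_sq,
        inv_mul_cancel₀ (pow_ne_zero _ (pw_ne_zero φ T.ne_zero))]
  obtain ⟨T₁, rfl⟩ : ∃ T : Fˣ, (T : F) = t₁ := ⟨Units.mk0 t₁ h1, rfl⟩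
  obtain ⟨T₂, rfl⟩ : ∃ T : Fˣ, (T : F) = t₂ := ⟨Units.mk0 t₂ h2, rfl⟩
  obtain ⟨T₃, h3⟩ := D.exists_third (t₁ := T₁) (t₂ := T₂) (fun e => hne (by rw [e]))
  refine ⟨_, _, _, D.rw_fam h h3, ?_⟩
  simp only [Units.val_mul, Units.val_inv_eq_inv_val, pw_mul, pw_inv]
  have p1 := pw_ne_zero φ T₁.ne_zero
  have p2 := pw_ne_zero φ T₂.ne_zero
  have p3 := pw_ne_zero φ T₃.ne_zero
  field_simp at h3 ⊢
  linear_combination (pw φ (T₃ : F) * (pw φ (T₂ : F) + pw φ (T₁ : F)) + pw φ (T₁ : F) * pw φ (T₂ : F)) * h3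

theorem lmap_injective (h : D.Normal β) : Function.Injective (lmap φ β) := by
  rw [injective_iff_map_eq_zero]
  intro s hs
  by_contra hs0
  have hs1 : s ≠ 1 := by
    rintro rfl
    rw [lmap_one] at hs
    exact one_ne_zero hs
  have h1s : (1 : F) + s ≠ 0 := fun e => hs1 (CharTwo.add_eq_zero.1 e).symm
  set T₁ : Fˣ := Units.mk0 s hs0
  set T₂ : Fˣ := Units.mk0 (1 + s) h1s
  have hne : T₁ ≠ T₂ := fun e => one_ne_zero (α := F) (by
    have := congrArg Units.val e
    simpa [T₁, T₂] using this)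
  obtain ⟨T₃, h3⟩ := D.exists_third hne
  have hR := D.rw_fam h h3
  have e : fam φ β (T₁ : F) (T₂ : F) = uinv φ ((1 : F), β) := by
    show fam φ β s (1 + s) = _
    rw [fam_one, hs, zero_add]
    simp [uinv]
  have hI := D.rw_inv (D.rw_w h)
  rw [e] at hR
  obtain ⟨hA, -, -⟩ := D.rw_unique hR hI
  have hA1 := congrArg Prod.fst hA
  simp only [usc, uinv, fam_eq, mul_eq_zero, Units.ne_zero, false_or] at hA1
  have h13 : (T₁ : F) = T₃ := CharTwo.add_eq_zero.1 hA1
  rw [← h13] at h3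
  exact inv_ne_zero (pw_ne_zero φ T₂.ne_zero) (add_eq_left.1 h3)

theorem lmap_bijective (h : D.Normal β) : Function.Bijective (lmap φ β) :=
  ⟨D.lmap_injective h, Finite.surjective_of_injective (D.lmap_injective h)⟩

/-- The inverse of `lmap`. -/
noncomputable def minv (h : D.Normal β) : F ≃+ F :=
  (AddEquiv.ofBijective (lmap φ β) (D.lmap_bijective h)).symm

theorem lmap_minv (h : D.Normal β) (y : F) : lmap φ β (D.minv h y) = y :=
  (AddEquiv.ofBijective (lmap φ β) (D.lmap_bijective h)).apply_symm_apply y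

theorem minv_lmap (h : D.Normal β) (y : F) : D.minv h (lmap φ β y) = y :=
  D.lmap_injective h (by rw [lmap_minv])

/-- The function with the functional equation. -/
noncomputable def gfun (h : D.Normal β) (t : F) : F :=
  pw φ t * lmap' φ β (D.minv h (pw φ t)⁻¹)

theorem gfun_one_add (h : D.Normal β) {t : F} (ht0 : t ≠ 0) (ht1 : t ≠ 1) :
    D.gfun h (1 + t) = D.gfun h t + 1 := by
  classical
  have two := CharTwo.two_eq_zero (R := F)
  have h1t : (1 : F) + t ≠ 0 := fun e => ht1 (CharTwo.add_eq_zero.1 e).symm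
  set T : Fˣ := Units.mk0 t ht0
  have pt := pw_ne_zero φ ht0
  have p1 := pw_ne_zero φ h1t
  -- `z w` on the family
  set σ := 1 + D.minv h (pw φ t)⁻¹ with hσ
  have hzw : umul φ ((0 : F), (pw φ t)⁻¹) (1, β) = fam φ β σ (1 + σ) := by
    rw [fam_one, hσ, map_add, lmap_one, D.lmap_minv]
    refine Prod.ext ?_ ?_ <;> simp [umul]
    linear_combination -two
  -- `W(t) w` on the family
  set m := D.minv h (pw φ (1 + t))⁻¹ with hm
  set σ' := t / (1 + t) + m with hσ'
  have hWw : umul φ (wpt φ β t) (1, β) = fam φ β ((1 + t) * σ') ((1 + t) * (1 + σ')) := by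
    rw [fam_mul, fam_one, hσ', map_add, D.lmap_minv]
    have hv : t / (1 + t) * (1 + t) = t := div_mul_cancel₀ t h1t
    have hφv : φ (t / (1 + t)) * φ (1 + t) = φ t := by rw [← map_mul, hv]
    refine Prod.ext ?_ ?_
    · simp only [umul, wpt, usc]; ring
    · simp only [umul, wpt, usc, lmap_apply]
      have e1 : pw φ (1 + t) * (pw φ (1 + t))⁻¹ = 1 := mul_inv_cancel₀ p1
      have e2 : pw φ (1 + t) = φ (1 + t) * (1 + t) := rfl
      have e3 : pw φ t = φ t * t := rfl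
      have e5 : φ (1 + t) = 1 + φ t := by rw [map_add, map_one]
      grind
  obtain ⟨A, r, C, hR, hr⟩ := D.rw_norm h (t₁ := (1 + t) * σ') (t₂ := (1 + t) * (1 + σ'))
    (fun e => by
      have := mul_left_cancel₀ h1t e
      exact one_ne_zero (α := F) (by linear_combination -this))
  obtain ⟨A', r', C', hR', hr'⟩ := D.rw_norm h (t₁ := σ) (t₂ := 1 + σ) (fun e =>
    one_ne_zero (α := F) (by linear_combination -e))
  rw [← hWw] at hR
  rw [← hzw] at hR'
  -- two ways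
  have hc := D.rw_centre h T
  rw [show (T : F) = t from rfl] at hc
  have hw := D.rw_w h
  have hprod : D.Rw (umul φ (0, (pw φ t)⁻¹) (1, β))
      (umul φ (uinv φ (wpt φ β t)) (usc φ ((T * T : Fˣ) : F) A)) (T * T * r)
      (umul φ C (0, 1)) := by
    show D.t * D.u _ * D.t = _
    rw [D.rw_mul hc hw, inv_one, map_one, mul_one,
      show D.t * D.u (umul φ (wpt φ β t) (1, β)) * D.t = _ from hR, map_mul _ (T * T) r,
      ← D.u_mul, ← D.u_mul]
    show D.u (uinv φ (wpt φ β t)) * D.hh (T * T) * (D.u A * D.hh r * D.t * D.u C) * D.u (0, 1) = _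
    calc _ = D.u (uinv φ (wpt φ β t)) * (D.hh (T * T) * D.u A) * D.hh r * D.t *
          (D.u C * D.u (0, 1)) := by group
      _ = _ := by rw [D.hh_conj]; group
  obtain ⟨-, hrr, -⟩ := D.rw_unique hR' hprod
  rw [hrr, Units.val_mul, Units.val_mul, pw_mul, pw_sq, Units.val_mk0] at hr'
  have e1 := pw_mul φ (1 + t) σ'
  have e2 := pw_mul φ (1 + t) (1 + σ')
  rw [e1, e2] at hr
  have hkey : pw φ t * (pw φ σ + pw φ (1 + σ)) =
      pw φ (1 + t) * pw φ σ' + pw φ (1 + t) * pw φ (1 + σ') := by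
    refine CharTwo.sq_inj.1 ?_
    have hr0 : pw φ (r : F) ≠ 0 := pw_ne_zero φ r.ne_zero
    refine mul_left_cancel₀ hr0 ?_
    linear_combination hr' - hr
  have hK : ∀ y : F, φ (D.minv h y) + D.minv h y = lmap' φ β (D.minv h y) + y := by
    intro y
    conv_rhs => rw [← D.lmap_minv h y]
    rw [D.minv_lmap h, lmap_apply, lmap'_apply]
    linear_combination -β * (D.minv h y + φ (D.minv h y)) * two
  have hv : t / (1 + t) * (1 + t) = t := div_mul_cancel₀ t h1t
  have hφv : φ (t / (1 + t)) * φ (1 + t) = φ t := by rw [← map_mul, hv]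
  have k1 := hK (pw φ t)⁻¹
  have k2 := hK (pw φ (1 + t))⁻¹
  rw [← hm] at k2
  unfold gfun
  rw [← hm]
  set n := D.minv h (pw φ t)⁻¹
  set n' := lmap' φ β m
  set v := t / (1 + t)
  rw [pw_one_add φ σ, pw_one_add φ σ', hσ, hσ', map_add, map_add, map_one] at hkey
  have c1 : pw φ t * (pw φ t)⁻¹ = 1 := mul_inv_cancel₀ pt
  have c2 : pw φ (1 + t) * (pw φ (1 + t))⁻¹ = 1 := mul_inv_cancel₀ p1
  have e3 : pw φ t = φ t * t := rfl
  have e4 : pw φ (1 + t) = φ (1 + t) * (1 + t) := rfl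
  have e5 : φ (1 + t) = 1 + φ t := by rw [map_add, map_one]
  grind

theorem lmap_smul {c : F} (hc : φ c = c) (s : F) : lmap φ β (c * s) = c * lmap φ β s := by
  rw [lmap_apply, lmap_apply, map_mul, hc]; ring

theorem lmap'_smul {c : F} (hc : φ c = c) (s : F) : lmap' φ β (c * s) = c * lmap' φ β s := by
  rw [lmap'_apply, lmap'_apply, map_mul, hc]; ring

theorem gfun_smul (h : D.Normal β) {c : F} (hc : φ c = c) (hc0 : c ≠ 0) (t : F) :
    D.gfun h (c * t) = D.gfun h t := by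
  have hcc : φ (c * c)⁻¹ = (c * c)⁻¹ := by rw [map_inv₀, map_mul, hc]
  have hM : D.minv h ((c * c)⁻¹ * (pw φ t)⁻¹) = (c * c)⁻¹ * D.minv h (pw φ t)⁻¹ :=
    D.lmap_injective h (by rw [D.lmap_minv, D.lmap_smul hcc, D.lmap_minv])
  have hpc : pw φ c = c * c := by rw [pw, hc]
  unfold gfun
  rw [pw_mul, hpc, mul_inv, hM, D.lmap'_smul hcc]
  field_simp

theorem fixed_trivial (h : D.Normal β) (hF : 4 < Fintype.card F) {c : F} (hc : φ c = c) :
    c = 0 ∨ c = 1 := by
  classical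
  by_contra hne
  push Not at hne
  obtain ⟨hc0, hc1⟩ := hne
  have hd : φ (1 + c) = 1 + c := by rw [map_add, map_one, hc]
  have hd0 : (1 : F) + c ≠ 0 := fun e => hc1 (CharTwo.add_eq_zero.1 e).symm
  obtain ⟨x, -, hx⟩ := Finset.exists_mem_notMem_of_card_lt_card
    (s := ({0, 1, c, 1 + c} : Finset F)) (t := Finset.univ) (by
      rw [Finset.card_univ]
      exact lt_of_le_of_lt Finset.card_le_four hF)
  simp only [Finset.mem_insert, Finset.mem_singleton, not_or] at hx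
  obtain ⟨hx0, hx1, hxc, hxd⟩ := hx
  -- adding a fixed element adds one
  have key : ∀ e : F, φ e = e → e ≠ 0 → ∀ y : F, y ≠ 0 → y ≠ e →
      D.gfun h (y + e) = D.gfun h y + 1 := by
    intro e he he0 y hy0 hye
    have e1 : y + e = e * (1 + y / e) := by field_simp; ring
    have e2 : D.gfun h y = D.gfun h (y / e) := by
      conv_lhs => rw [show y = e * (y / e) by field_simp]
      exact D.gfun_smul h he he0 _
    rw [e1, D.gfun_smul h he he0, D.gfun_one_add h (div_ne_zero hy0 he0)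
      (fun e' => hye ((div_eq_one_iff_eq he0).1 e')), ← e2]
  have h1 := key (1 + c) hd hd0 x hx0 hxd
  have h2 := key c hc hc0 (x + 1) (fun e => hx1 (CharTwo.add_eq_zero.1 e))
    (fun e => hxd (by linear_combination e - CharTwo.two_eq_zero (R := F)))
  have h3 := key 1 (map_one φ) one_ne_zero x hx0 hx1
  rw [add_assoc] at h2
  rw [h2, h3, add_assoc, CharTwo.add_self_eq_zero, add_zero] at h1
  exact one_ne_zero (α := F) (add_eq_left.1 h1.symm)

theorem beta_cases (h : D.Normal β) (hF : 4 < Fintype.card F) : β = 0 ∨ β = 1 := by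
  classical
  by_contra hne
  push Not at hne
  obtain ⟨h0, h1⟩ := hne
  let q : Fˣ → Fˣ := fun s => Units.map (φ : F →* F) s / s
  have hq : Function.Injective q := by
    intro s s' he
    have he' : φ (s : F) / s = φ (s' : F) / s' := by
      have := congrArg Units.val he
      simpa [q, Units.val_div_eq_div_val] using this
    have hfix : φ ((s : F) / s') = (s : F) / s' := by
      have := (map_ne_zero_iff φ φ.injective).2 s'.ne_zero
      rw [map_div₀]
      field_simp at he' ⊢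
      linear_combination he'
    rcases D.fixed_trivial h hF hfix with e | e
    · exact absurd e (div_ne_zero s.ne_zero s'.ne_zero)
    · exact Units.ext ((div_eq_one_iff_eq s'.ne_zero).1 e)
  have hb : (β + 1) / β ≠ 0 := div_ne_zero (fun e => h1 (CharTwo.add_eq_zero.1 e)) h0
  obtain ⟨s, hs⟩ := Finite.surjective_of_injective hq (Units.mk0 _ hb)
  have hs' : φ (s : F) / s = (β + 1) / β := by
    have := congrArg Units.val hs
    simpa [q, Units.val_div_eq_div_val] using this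
  refine s.ne_zero (D.lmap_injective h (?_ : lmap φ β (s : F) = lmap φ β 0))
  rw [map_zero, lmap_apply]
  field_simp at hs'
  linear_combination hs' + (β + 1) * (s : F) * CharTwo.two_eq_zero (R := F)

theorem phi_sq_one (h : D.Normal (1 : F)) (x : F) : φ (φ x) = x ^ 2 := by
  have two := CharTwo.two_eq_zero (R := F)
  by_cases hx0 : x = 0
  · simp [hx0]
  by_cases hx1 : x = 1
  · simp [hx1]
  have hM : ∀ y, φ (D.minv h y) = y := by
    intro y
    have := D.lmap_minv h y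
    rw [lmap_apply] at this
    linear_combination this - D.minv h y * two
  have hG : ∀ y : F, y ≠ 0 → φ (D.gfun h y) = φ (φ y) / y := by
    intro y hy
    have hn := (map_ne_zero_iff φ φ.injective).2 hy
    unfold gfun
    rw [lmap'_apply, show (1 : F) + 1 = 0 from CharTwo.add_self_eq_zero 1, zero_mul, add_zero,
      one_mul, map_mul, hM, pw, map_mul]
    field_simp
  have h1x : (1 : F) + x ≠ 0 := fun e => hx1 (CharTwo.add_eq_zero.1 e).symm
  have e := congrArg φ (D.gfun_one_add h hx0 hx1)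
  rw [map_add, map_one, hG _ h1x, hG _ hx0, map_add, map_one, map_add, map_one] at e
  field_simp at e
  linear_combination e + φ (φ x) * two

theorem phi_sq_zero (h : D.Normal (0 : F)) (x : F) : φ (φ x) ^ 2 = x := by
  have two := CharTwo.two_eq_zero (R := F)
  by_cases hx0 : x = 0
  · simp [hx0]
  by_cases hx1 : x = 1
  · simp [hx1]
  have hM : ∀ y, D.minv h y = y := by
    intro y
    have := D.lmap_minv h y
    rw [lmap_apply] at this
    linear_combination this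
  have hG : ∀ y : F, y ≠ 0 → D.gfun h y = y / φ (φ y) := by
    intro y hy
    have hn := (map_ne_zero_iff φ φ.injective).2 hy
    have hn2 := (map_ne_zero_iff φ φ.injective).2 hn
    unfold gfun
    rw [lmap'_apply, hM, zero_mul, zero_add, zero_add, one_mul, pw, map_inv₀, map_mul]
    field_simp
  have h1x : (1 : F) + x ≠ 0 := fun e => hx1 (CharTwo.add_eq_zero.1 e).symm
  have e := D.gfun_one_add h hx0 hx1
  have hn := (map_ne_zero_iff φ φ.injective).2 hx0
  have hn2 := (map_ne_zero_iff φ φ.injective).2 hn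
  have hn3 := (map_ne_zero_iff φ φ.injective).2 ((map_ne_zero_iff φ φ.injective).2 h1x)
  rw [hG _ h1x, hG _ hx0] at e
  rw [map_add, map_one, map_add, map_one] at e hn3
  field_simp at e
  linear_combination -e - x * two

end RawFrame

end Cfsg.Agent.Lib.SuzukiUniq
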