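import Mathlib
import Cfsg.Agent.Lib.SuzukiUniq.Determine
import Cfsg.Agent.Lib.SuzukiTwo.TypeA

/-!
Two groups with coordinates over fields of the same order are isomorphic.
-/

set_option autoImplicit false
set_option linter.unusedSectionVars false

namespace Cfsg.Agent.Lib.SuzukiUniq

open MulAction

variable {G Ω : Type*} [Group G] [MulAction G Ω]
variable {F : Type*} [Field F] [Fintype F] [CharP F 2]
variable {φ : F ≃+* F}

namespace RawFrame

variable (D : RawFrame G Ω F φ)
include D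

/-- The opposite coordinates. -/
def flip : RawFrame G Ω F φ.symm where
  a := D.a
  b := D.b
  ne := D.ne
  u X := D.u (φ.symm X.1, X.2 + φ.symm X.1 * X.1)
  u_mul X Y := by
    rw [D.u_mul]
    congr 1
    refine Prod.ext ?_ ?_
    · simp [umul, map_add]
    · simp only [umul, RingEquiv.apply_symm_apply, map_add]
      linear_combination -(φ.symm X.1 * Y.1) * CharTwo.two_eq_zero (R := F)
  u_fix _ := D.u_fix _
  u_reg x hx := by
    obtain ⟨X, hX, huniq⟩ := D.u_reg x hx
    refine ⟨(φ X.1, X.2 + X.1 * φ X.1), ?_, fun Y hY => ?_⟩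
    · simp only [RingEquiv.symm_apply_apply]
      rw [show X.2 + X.1 * φ X.1 + X.1 * φ X.1 = X.2 by
        linear_combination (X.1 * φ X.1) * CharTwo.two_eq_zero (R := F)]
      exact hX
    · rw [← huniq _ hY]
      refine Prod.ext (by simp) ?_
      simp only [RingEquiv.apply_symm_apply]
      linear_combination -(φ.symm Y.1 * Y.1) * CharTwo.two_eq_zero (R := F)
  hh := D.hh.comp (Units.map (φ.symm : F →* F))
  hh_fix _ := D.hh_fix _
  hh_all g h1 h2 := by
    obtain ⟨s, hs⟩ := D.hh_all g h1 h2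
    refine ⟨Units.map (φ : F →* F) s, ?_⟩
    rw [← hs, MonoidHom.comp_apply]
    congr 1
    exact Units.ext (φ.symm_apply_apply _)
  hh_inj := D.hh_inj.comp (Units.map_injective φ.symm.injective)
  hh_conj s X := by
    rw [MonoidHom.comp_apply, D.hh_conj]
    congr 2
    have h := φ.apply_symm_apply (s : F)
    refine Prod.ext ?_ ?_
    · simp [usc, map_mul]
    · simp only [usc, pw, Units.coe_map, MonoidHom.coe_coe, map_mul]
      rw [show φ (φ.symm (s : F)) = s from h]
      ring
  t := D.t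
  t_a := D.t_a
  t_b := D.t_b
  t_sq := D.t_sq
  t_hh s := by rw [MonoidHom.comp_apply, MonoidHom.comp_apply, map_inv, D.t_hh]
  faithful := D.faithful
  pw_inj s s' hs h := by
    refine φ.symm.injective (D.pw_inj _ _ ((map_ne_zero_iff _ φ.symm.injective).2 hs) ?_)
    simp only [pw, RingEquiv.apply_symm_apply]
    simp only [pw] at h
    linear_combination h

theorem flip_normal (h : D.Normal 0) : D.flip.Normal 1 := by
  have e0 : (1 : F) + 1 = 0 := CharTwo.add_self_eq_zero 1
  show D.t * D.u _ * D.t = D.u _ * D.hh _ * D.t * D.u _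
  have h' : D.t * D.u (0, 1) * D.t = D.u _ * D.hh _ * D.t * D.u _ := h
  simpa [uinv, map_one, e0] using h'

/-- Coordinates over an isomorphic field. -/
def transport {F' : Type*} [Field F'] [Fintype F'] [CharP F' 2] (e : F ≃+* F') :
    RawFrame G Ω F' ((e.symm.trans φ).trans e) where
  a := D.a
  b := D.b
  ne := D.ne
  u X := D.u (e.symm X.1, e.symm X.2)
  u_mul X Y := by
    rw [D.u_mul]
    simp [umul, map_add, map_mul]
  u_fix _ := D.u_fix _
  u_reg x hx := by
    obtain ⟨X, hX, huniq⟩ := D.u_reg x hx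
    refine ⟨(e X.1, e X.2), by simpa using hX, fun Y hY => ?_⟩
    rw [← huniq _ hY]
    simp
  hh := D.hh.comp (Units.map (e.symm : F' →* F))
  hh_fix _ := D.hh_fix _
  hh_all g h1 h2 := by
    obtain ⟨s, hs⟩ := D.hh_all g h1 h2
    refine ⟨Units.map (e : F →* F') s, ?_⟩
    rw [← hs, MonoidHom.comp_apply]
    congr 1
    exact Units.ext (e.symm_apply_apply _)
  hh_inj := D.hh_inj.comp (Units.map_injective e.symm.injective)
  hh_conj s X := by
    rw [MonoidHom.comp_apply, D.hh_conj]
    simp [usc, pw, map_mul]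
  t := D.t
  t_a := D.t_a
  t_b := D.t_b
  t_sq := D.t_sq
  t_hh s := by rw [MonoidHom.comp_apply, MonoidHom.comp_apply, map_inv, D.t_hh]
  faithful := D.faithful
  pw_inj s s' hs h := by
    refine e.symm.injective (D.pw_inj _ _ ((map_ne_zero_iff _ e.symm.injective).2 hs)
      (e.injective ?_))
    simpa [pw, map_mul] using h

theorem eq_pow_of_sq {m : ℕ} (hF : Fintype.card F = 2 ^ (2 * m + 1))
    (h : ∀ x, φ (φ x) = x ^ 2) (x : F) : φ x = x ^ 2 ^ (m + 1) := by
  have hodd : Odd (orderOf φ) := SuzukiTwo.odd_orderOf_of_injective φ (fun s s' he =>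
    D.pw_injective (by simpa [pw, mul_comm] using he))
  have hev : ∀ (j : ℕ) (y : F), (φ ^ (2 * j)) y = y ^ 2 ^ j := by
    intro j
    induction j with
    | zero => intro y; simp
    | succ j ih =>
      intro y
      rw [mul_add, pow_add, RingAut.mul_apply, mul_one, pow_two, RingAut.mul_apply, h, map_pow,
        ih, ← pow_mul, ← pow_succ]
  have h2n : φ ^ (2 * (2 * m + 1)) = 1 := RingEquiv.ext fun y => by
    rw [hev, ← hF, FiniteField.pow_card]; rfl
  have hn : orderOf φ ∣ 2 * m + 1 :=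
    (Nat.Coprime.dvd_of_dvd_mul_left (Nat.coprime_two_right.2 hodd) (orderOf_dvd_of_pow_eq_one h2n))
  rw [← hev (m + 1) x, show 2 * (m + 1) = 2 * m + 1 + 1 by ring, pow_succ,
    orderOf_dvd_iff_pow_eq_one.1 hn, one_mul]

theorem exists_standard {m : ℕ} (hm : 1 ≤ m) (hF : Fintype.card F = 2 ^ (2 * m + 1)) :
    ∃ (φ' : F ≃+* F) (D' : RawFrame G Ω F φ'),
      D'.Normal 1 ∧ ∀ x, φ' x = x ^ 2 ^ (m + 1) := by
  obtain ⟨D₁, β, h⟩ := D.exists_normal (odd_two_mul_add_one m) hF
  have h4 : 4 < Fintype.card F := by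
    rw [hF]
    exact lt_of_lt_of_le (by norm_num) (Nat.pow_le_pow_right (by norm_num)
      (show 3 ≤ 2 * m + 1 by omega))
  obtain rfl | rfl := D₁.beta_cases h h4
  · refine ⟨φ.symm, D₁.flip, D₁.flip_normal h, D₁.flip.eq_pow_of_sq hF fun x => ?_⟩
    have := D₁.phi_sq_zero h (φ.symm (φ.symm x))
    rw [RingEquiv.apply_symm_apply, RingEquiv.apply_symm_apply] at this
    exact this.symm
  · exact ⟨φ, D₁, h, D₁.eq_pow_of_sq hF (D₁.phi_sq_one h)⟩

/-- The rewriting depends only on the coordinates. -/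
theorem exists_rw_pair {G' Ω' : Type*} [Group G'] [MulAction G' Ω'] {β : F}
    (E : RawFrame G' Ω' F φ) (hD : D.Normal β) (hE : E.Normal β) {X : F × F} (hX : X ≠ 0) :
    ∃ A r C, D.Rw X A r C ∧ E.Rw X A r C := by
  obtain ⟨x, y⟩ := X
  by_cases hx : x = 0
  · subst hx
    have hy : y ≠ 0 := fun e => hX (by rw [e]; rfl)
    obtain ⟨t, ht⟩ := D.exists_unit_pw (inv_ne_zero hy)
    have e : y = (pw φ (t : F))⁻¹ := by rw [ht, inv_inv]
    rw [e]
    exact ⟨_, _, _, D.rw_centre hD t, E.rw_centre hE t⟩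
  obtain ⟨σ, hσ⟩ := (D.lmap_bijective hD).2 (y / pw φ x + β + 1)
  have e : ((x, y) : F × F) = fam φ β (x * σ) (x * (1 + σ)) := by
    rw [fam_mul, fam_one, hσ]
    have hp := pw_ne_zero φ hx
    refine Prod.ext ?_ ?_ <;> simp only [usc]
    · rw [mul_one]
    · field_simp
      linear_combination -(pw φ x * (β + 1)) * CharTwo.two_eq_zero (R := F)
  by_cases h1 : σ = 0
  · obtain ⟨T, rfl⟩ : ∃ T : Fˣ, (T : F) = x := ⟨Units.mk0 x hx, rfl⟩
    have e' : fam φ β ((T : F) * σ) ((T : F) * (1 + σ)) = uinv φ (wpt φ β T) := by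
      rw [h1, mul_zero, add_zero, mul_one, fam, show wpt φ β (0 : F) = 0 by simp [wpt, pw_zero],
        zero_umul]
    rw [e, e']
    exact ⟨_, _, _, D.rw_inv (D.rw_wpt hD T), E.rw_inv (E.rw_wpt hE T)⟩
  by_cases h2 : 1 + σ = 0
  · obtain ⟨T, rfl⟩ : ∃ T : Fˣ, (T : F) = x := ⟨Units.mk0 x hx, rfl⟩
    have hσ1 : σ = 1 := (CharTwo.add_eq_zero.1 h2).symm
    have e' : fam φ β ((T : F) * σ) ((T : F) * (1 + σ)) = wpt φ β T := by
      rw [h2, hσ1, mul_zero, mul_one, fam, show wpt φ β (0 : F) = 0 by simp [wpt, pw_zero],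
        show uinv φ (0 : F × F) = 0 by simp [uinv], umul_zero]
    rw [e, e']
    exact ⟨_, _, _, D.rw_wpt hD T, E.rw_wpt hE T⟩
  set T₁ : Fˣ := Units.mk0 (x * σ) (mul_ne_zero hx h1)
  set T₂ : Fˣ := Units.mk0 (x * (1 + σ)) (mul_ne_zero hx h2)
  obtain ⟨T₃, h3⟩ := D.exists_third (t₁ := T₁) (t₂ := T₂) (fun he => by
    have := mul_left_cancel₀ hx (congrArg Units.val he)
    exact one_ne_zero (α := F) (by linear_combination -this))
  rw [e]
  exact ⟨_, _, _, D.rw_fam hD h3, E.rw_fam hE h3⟩

/-- The points. -/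
noncomputable def pts : Option (F × F) ≃ Ω :=
  Equiv.ofBijective (fun o => o.elim D.a fun X => D.u X • D.b) (by
    refine ⟨?_, fun c => ?_⟩
    · rintro (_ | X) (_ | Y) h
      · rfl
      · exact absurd h.symm (D.u_b_ne Y)
      · exact absurd h (D.u_b_ne X)
      · exact congrArg some (D.u_b_inj h)
    · by_cases hc : c = D.a
      · exact ⟨none, hc.symm⟩
      · exact ⟨some _, (D.u_reg c hc).exists.choose_spec⟩)

theorem pts_none : D.pts none = D.a := rfl
theorem pts_some (X : F × F) : D.pts (some X) = D.u X • D.b := rfl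

/-- The action on coordinates. -/
noncomputable def perm : G →* Equiv.Perm (Option (F × F)) :=
  D.pts.symm.permCongrHom.toMonoidHom.comp (MulAction.toPermHom G Ω)

theorem perm_apply (g : G) (o : Option (F × F)) : D.pts (D.perm g o) = g • D.pts o := by
  simp [perm, Equiv.permCongr_apply]

theorem perm_injective : Function.Injective D.perm := by
  rw [injective_iff_map_eq_one]
  intro g hg
  refine D.faithful g fun c => ?_
  obtain ⟨o, rfl⟩ := D.pts.surjective c
  rw [← D.perm_apply, hg, Equiv.Perm.one_apply]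

theorem closure_generators : Subgroup.closure (Set.range D.u ∪ Set.range D.hh ∪ {D.t}) = ⊤ := by
  rw [eq_top_iff]
  intro g _
  set K := Subgroup.closure (Set.range D.u ∪ Set.range D.hh ∪ {D.t})
  have hu : ∀ X, D.u X ∈ K := fun X => Subgroup.subset_closure (Or.inl (Or.inl ⟨X, rfl⟩))
  have hh : ∀ s, D.hh s ∈ K := fun s => Subgroup.subset_closure (Or.inl (Or.inr ⟨s, rfl⟩))
  have ht : D.t ∈ K := Subgroup.subset_closure (Or.inr rfl)
  have key : ∀ g : G, g • D.a = D.a → g ∈ K := fun g hg => by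
    obtain ⟨X, s, rfl⟩ := D.exists_of_fix hg
    exact K.mul_mem (hu X) (hh s)
  by_cases hg : g • D.a = D.a
  · exact key g hg
  · obtain ⟨X, hX, -⟩ := D.u_reg _ hg
    have h1 := key ((D.u X * D.t)⁻¹ * g) (by
      rw [mul_smul, inv_smul_eq_iff, mul_smul, D.t_a, hX])
    rw [← mul_inv_cancel_left (D.u X * D.t) g]
    exact K.mul_mem (K.mul_mem (hu X) ht) h1

theorem perm_u (Y : F × F) (o : Option (F × F)) : D.perm (D.u Y) o = o.map (umul φ Y) := by
  refine D.pts.injective ?_
  rw [D.perm_apply]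
  cases o with
  | none => exact D.u_fix Y
  | some X => rw [Option.map_some, pts_some, pts_some, smul_smul, D.u_mul]

theorem perm_hh (s : Fˣ) (o : Option (F × F)) :
    D.perm (D.hh s) o = o.map (usc φ (s : F)) := by
  refine D.pts.injective ?_
  rw [D.perm_apply]
  cases o with
  | none => exact (D.hh_fix s).1
  | some X =>
    rw [Option.map_some, pts_some, pts_some, smul_smul, D.hh_conj, mul_smul, (D.hh_fix s).2]

theorem perm_t_none : D.perm D.t none = some 0 := by
  refine D.pts.injective ?_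
  rw [D.perm_apply, pts_none, pts_some, D.t_a, D.u_zero, one_smul]

theorem perm_t_zero : D.perm D.t (some 0) = none := by
  refine D.pts.injective ?_
  rw [D.perm_apply, pts_none, pts_some, D.u_zero, one_smul, D.t_b]

theorem perm_t_rw {X A C : F × F} {r : Fˣ} (hR : D.Rw X A r C) :
    D.perm D.t (some X) = some A := by
  refine D.pts.injective ?_
  rw [D.perm_apply, pts_some, pts_some, ← D.big_a A C r,
    ← show D.t * D.u X * D.t = _ from hR, mul_smul, mul_smul, D.t_a]

theorem nonempty_mulEquiv_of_normal {G' Ω' : Type*} [Group G'] [MulAction G' Ω'] {β : F}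
    (E : RawFrame G' Ω' F φ) (hD : D.Normal β) (hE : E.Normal β) : Nonempty (G ≃* G') := by
  have hu : ∀ Y, D.perm (D.u Y) = E.perm (E.u Y) := fun Y =>
    Equiv.ext fun o => by rw [perm_u, perm_u]
  have hh : ∀ s, D.perm (D.hh s) = E.perm (E.hh s) := fun s =>
    Equiv.ext fun o => by rw [perm_hh, perm_hh]
  have ht : D.perm D.t = E.perm E.t := by
    refine Equiv.ext fun o => ?_
    cases o with
    | none => rw [perm_t_none, perm_t_none]
    | some X =>
      by_cases hX : X = 0
      · rw [hX, perm_t_zero, perm_t_zero]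
      · obtain ⟨A, r, C, h1, h2⟩ := D.exists_rw_pair E hD hE hX
        rw [D.perm_t_rw h1, E.perm_t_rw h2]
  have hr : D.perm.range = E.perm.range := by
    rw [MonoidHom.range_eq_map, MonoidHom.range_eq_map, ← D.closure_generators,
      ← E.closure_generators, MonoidHom.map_closure, MonoidHom.map_closure]
    congr 1
    simp only [Set.image_union, Set.image_singleton, ht, ← Set.range_comp, Function.comp_def, hu, hh]
  exact ⟨(MonoidHom.ofInjective D.perm_injective).trans
    ((MulEquiv.subgroupCongr hr).trans (MonoidHom.ofInjective E.perm_injective).symm)⟩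

end RawFrame

/-- Groups with coordinates over fields of the same order are isomorphic. -/
theorem nonempty_mulEquiv {G' Ω' F' : Type*} [Group G'] [MulAction G' Ω'] [Field F'] [Fintype F']
    [CharP F' 2] {φ' : F' ≃+* F'} {m : ℕ} (hm : 1 ≤ m) (hF : Fintype.card F = 2 ^ (2 * m + 1))
    (hF' : Fintype.card F' = 2 ^ (2 * m + 1)) (D : RawFrame G Ω F φ)
    (E : RawFrame G' Ω' F' φ') : Nonempty (G ≃* G') := by
  let e : F' ≃+* F := FiniteField.ringEquivOfCardEq (hF'.trans hF.symm)
  obtain ⟨φ₁, D₁, hD, h1⟩ := D.exists_standard hm hF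
  obtain ⟨φ₂, E₁, hE, h2⟩ := (E.transport e).exists_standard hm hF
  obtain rfl : φ₁ = φ₂ := RingEquiv.ext fun x => by rw [h1, h2]
  exact D₁.nonempty_mulEquiv_of_normal E₁ hD hE

end Cfsg.Agent.Lib.SuzukiUniq
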