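import Mathlib
import Cfsg.Agent.Lib.SuzukiUniq.Iso
import Cfsg.Agent.Lib.SuzukiUniq.Coord
import Cfsg.Agent.Lib.Zassenhaus.TwoKernel.Final
import Cfsg.Agent.Lib.Suzuki.Simple
import Cfsg.Agent.Lib.SuzukiSp4.Iso
import Cfsg.Prelude.Def_Sz

/-!
The uniqueness of the Suzuki groups: a simple Zassenhaus group with a non-abelian 2-group as kernel
is isomorphic to a Suzuki group.
-/

set_option autoImplicit false
set_option linter.unusedSectionVars false

universe u v w

namespace Cfsg.Agent.Lib.SuzukiUniq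

open MulAction Cfsg Cfsg.Agent.Lib

/-- Coordinates on the Suzuki group. -/
theorem exists_frame_Sz {F : Type w} [Field F] [Fintype F] [CharP F 2] {m : ℕ}
    (h : Suzuki.Hyp F m) :
    ∃ φ : F ≃+* F, Nonempty (RawFrame (Cfsg.Sz F m) (Cfsg.suzukiOvoid F m) F φ) := by
  let θ : F →+* F :=
    { toFun := Suzuki.theta m
      map_one' := Suzuki.theta_one
      map_mul' := Suzuki.theta_mul
      map_zero' := Suzuki.theta_zero
      map_add' := h.theta_add }
  let φ : F ≃+* F := RingEquiv.ofBijective θ ⟨h.theta_injective, h.theta_surjective⟩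
  have hφ : ∀ x, φ x = Suzuki.theta m x := fun x => rfl
  let M : Fˣ →* Fˣ := Units.map (φ.symm : F →* F)
  have hM : ∀ s : Fˣ, Suzuki.theta m ((M s : Fˣ) : F) = s := fun s => φ.apply_symm_apply (s : F)
  refine ⟨φ, ⟨{
    a := Suzuki.ovInf F m
    b := Suzuki.ovAff m 0 0
    ne := (Suzuki.ovAff_ne_inf (0 : F) 0).symm
    u := fun X => Suzuki.szT h X.1 X.2
    u_mul := fun X Y => by rw [Suzuki.szT_mul]; rfl
    u_fix := fun X => Suzuki.szT_inf h _ _
    u_reg := fun c hc => by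
      obtain ⟨x, y, rfl⟩ := (Suzuki.ovPt_cases c).resolve_left hc
      refine ⟨(x, y), Suzuki.szT_zero_pt h x y, fun Y hY => ?_⟩
      simp only [Suzuki.szT_zero_pt h] at hY
      obtain ⟨h1, h2⟩ := Suzuki.ovAff_injective hY
      exact Prod.ext h1 h2
    hh := MonoidHom.mk' (fun s => Suzuki.szH h (M s)) (fun s s' => by
      show Suzuki.szH h (M (s * s')) = _
      rw [map_mul, Suzuki.szH_mul])
    hh_fix := fun s => ⟨Suzuki.szH_inf h _, Suzuki.szH_zero_pt h _⟩
    hh_all := fun g h1 h2 => by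
      obtain ⟨u, rfl⟩ := Suzuki.eq_szH_of_fix h h1 h2
      refine ⟨Units.map (φ : F →* F) u, ?_⟩
      show Suzuki.szH h (M _) = _
      congr 1
      exact Units.ext (φ.symm_apply_apply (u : F))
    hh_inj := fun s s' e => Units.map_injective φ.symm.injective (Suzuki.szH_injective h e)
    hh_conj := fun s X => by
      show Suzuki.szH h (M s) * Suzuki.szT h X.1 X.2 = _
      have h3 : ((M s : Fˣ) : F) ^ 2 = φ (s : F) := by rw [← h.theta_theta, hM, hφ]
      rw [Suzuki.szH_mul_szT, h3, hM]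
      rfl
    t := Suzuki.szW h
    t_a := Suzuki.szW_inf h
    t_b := Suzuki.szW_zero h
    t_sq := Suzuki.szW_mul_self h
    t_hh := fun s => by
      show Suzuki.szW h * Suzuki.szH h (M s) = Suzuki.szH h (M s⁻¹) * Suzuki.szW h
      rw [Suzuki.szW_mul_szH, map_inv]
    faithful := fun g hg => by
      haveI := Suzuki.faithfulSMul_ovoid h
      exact eq_of_smul_eq_smul (α := Cfsg.suzukiOvoid F m) (fun c => by rw [hg, one_smul])
    pw_inj := fun s s' hs e => by
      rw [pw, pw, hφ, hφ] at e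
      have hs' : s' ≠ 0 := fun e' => by
        rw [e', mul_zero] at e
        exact mul_ne_zero (Suzuki.theta_ne_zero hs) hs e
      have hq : s / s' ≠ 0 := div_ne_zero hs hs'
      refine (div_eq_one_iff_eq hs').mp (h.eq_one_of_theta_mul hq ?_)
      have := Suzuki.theta_ne_zero (m := m) hs'
      rw [div_eq_mul_inv, Suzuki.theta_mul, Suzuki.theta_inv]
      field_simp
      linear_combination e }⟩⟩

/-- Coordinates on a simple Zassenhaus group with a non-abelian 2-group as kernel. -/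
theorem exists_frame {G : Type u} {Ω : Type v} [Group G] [Fintype G] [MulAction G Ω] [Fintype Ω]
    [IsSimpleGroup G] {U : Subgroup G} {a b : Ω} {h e q : ℕ}
    (d : Zassenhaus.TwoKernel.Data U a b h e q) :
    ∃ (m : ℕ) (F : Type) (_ : Field F) (_ : Fintype F) (_ : CharP F 2) (φ : F ≃+* F),
      1 ≤ m ∧ Fintype.card F = 2 ^ (2 * m + 1) ∧ Nonempty (RawFrame G Ω F φ) := by
  classical
  obtain ⟨n, ⟨m, rfl⟩, hn1, hq, hh⟩ := d.structure_theorem
  have s := d.setup
  have hab := s.ne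
  have hmem : ∀ g : G, g • a = a → ∀ x ∈ U, g * x * g⁻¹ ∈ U := fun g hg x hx =>
    (Subgroup.mem_normalizer_iff.1 (s.normalizer_eq.ge (mem_stabilizer_iff.2 hg)) x).1 hx
  set E := stabilizer G a ⊓ stabilizer G b with hE
  haveI := d.cyclic
  obtain ⟨⟨ε, hε⟩, hgen⟩ := IsCyclic.exists_generator (α := E)
  have hεa : ε • a = a := (Subgroup.mem_inf.1 hε).1
  have hεo : orderOf ε = e := by
    rw [← s.pair, ← Subgroup.orderOf_mk ε hε, orderOf_eq_card_of_forall_mem_zpowers hgen]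
  have hnorm : E ≤ Subgroup.normalizer (U : Set G) := inf_le_left.trans s.normalizer_eq.ge
  let ψ : E →* MulAut U :=
    (Subgroup.normalizerMonoidHom U).comp (Subgroup.inclusion hnorm)
  set k : MulAut U := ψ ⟨ε, hε⟩ with hk
  have hkp : ∀ (i : ℕ) (x : U), (((k ^ i) x : U) : G) = ε ^ i * x * (ε ^ i)⁻¹ := by
    intro i x
    rw [hk, ← map_pow]
    rfl
  have hord2 : ∀ x : U, x ≠ 1 → x * x = 1 → orderOf (x : G) = 2 := fun x hx1 hx =>
    orderOf_eq_prime (by rw [pow_two]; exact congrArg Subtype.val hx)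
      fun h1 => hx1 (Subtype.ext h1)
  have hreg : SuzukiTwo.IsRegGen k := by
    refine ⟨fun x y hx1 hx hy1 hy => ?_, fun i x hx1 hx hfix => ?_⟩
    · obtain ⟨δ, hδ, hc⟩ := d.trans x x.2 y y.2 (hord2 x hx1 hx) (hord2 y hy1 hy)
      obtain ⟨i, hi⟩ := (isOfFinOrder_of_finite _).mem_powers_iff_mem_zpowers.mpr (hgen ⟨δ, hδ⟩)
      have hi' : ε ^ i = δ := congrArg Subtype.val hi
      exact ⟨i, Subtype.ext (by rw [hkp, hi', hc])⟩
    · have h1 : ε ^ i * x * (ε ^ i)⁻¹ = x := by rw [← hkp, hfix]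
      have hcm : ε ^ i ∈ Subgroup.centralizer ({(x : G)} : Set G) :=
        Subgroup.mem_centralizer_singleton_iff.2 (mul_inv_eq_iff_eq_mul.1 h1)
      have hU := s.centralizer_le _ x.2 (fun e' => hx1 (Subtype.ext e')) hcm
      have hei : ε ^ i = 1 := by
        by_contra hne
        exact hab.symm (s.fix _ hU hne b (Subgroup.mem_inf.1 (E.pow_mem hε i)).2)
      refine MulEquiv.ext fun z => Subtype.ext ?_
      rw [hkp, hei, one_mul, inv_one, mul_one]
      rfl
  obtain ⟨F, iF, iFF, iC, φ, g, Ψ, hcard, hΨ, hΨmul, hgen', hkΨ, hpw⟩ :=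
    exists_coord d.suzuki hreg (by rw [s.cardH_eq, d.cardZ, hh])
  have hFcard : Fintype.card F = 2 ^ (2 * m + 1) := by rw [hcard, d.cardZ, hq]
  have hg0 : g ≠ 0 := fun e' => by
    have h1 := hgen'
    rw [SuzukiTwo.IsGen, e'] at h1
    simp at h1
    have := Fintype.one_lt_card (α := F)
    omega
  set gu : Fˣ := Units.mk0 g hg0
  have hguo : orderOf gu = e := by
    rw [← orderOf_units, Units.val_mk0, hgen', hcard, d.cardZ, d.q_eq, Nat.add_sub_cancel]
  have hgu : ∀ x : Fˣ, x ∈ Subgroup.zpowers gu := by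
    have htop : Subgroup.zpowers gu = ⊤ := Subgroup.eq_top_of_card_eq _ (by
      rw [Nat.card_zpowers, hguo, Nat.card_eq_fintype_card, Fintype.card_units, hcard, d.cardZ,
        d.q_eq, Nat.add_sub_cancel])
    exact fun x => htop ▸ Subgroup.mem_top x
  let hm : Fˣ →* G := monoidHomOfForallMemZpowers hgu (by rw [hεo, hguo] : orderOf ε ∣ orderOf gu)
  have hmg : hm gu = ε := monoidHomOfForallMemZpowers_apply_gen hgu _
  have hmpow : ∀ i : ℕ, hm (gu ^ i) = ε ^ i := fun i => by rw [map_pow, hmg]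
  have hunit : ∀ x : Fˣ, ∃ i : ℕ, gu ^ i = x := fun x =>
    (isOfFinOrder_of_finite _).mem_powers_iff_mem_zpowers.mpr (hgu x)
  haveI := s.zass.1
  obtain ⟨τ, hτa, hτb⟩ : ∃ τ : G, τ • a = b ∧ τ • b = a :=
    (is_two_pretransitive_iff.1 s.zass.2.1) hab hab.symm
  have hinv : ∀ x ∈ E, τ * x * τ⁻¹ = x⁻¹ := d.inv a b hab τ hτa hτb
  have hττ : τ * τ = 1 := by
    have hmemE : τ * τ ∈ E := Subgroup.mem_inf.2
      ⟨by rw [mem_stabilizer_iff, mul_smul, hτa, hτb], by rw [mem_stabilizer_iff, mul_smul, hτb, hτa]⟩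
    have h1 := hinv _ hmemE
    have h2 : (τ * τ) * (τ * τ) = 1 := by
      rw [show τ * (τ * τ) * τ⁻¹ = τ * τ by group] at h1
      exact mul_eq_one_iff_eq_inv.2 h1
    have h3 : orderOf (τ * τ) ∣ e := s.pair ▸ Subgroup.orderOf_dvd_natCard _ hmemE
    have h4 : orderOf (τ * τ) ∣ 2 := orderOf_dvd_of_pow_eq_one (by rw [pow_two, h2])
    have h5 := Nat.dvd_gcd h3 h4
    rw [Nat.coprime_iff_gcd_eq_one.1 (Nat.coprime_two_right.2 s.odd)] at h5
    exact orderOf_eq_one_iff.1 (Nat.dvd_one.1 h5)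
  refine ⟨m, F, iF, iFF, iC, φ, by omega, hFcard, ⟨{
    a := a
    b := b
    ne := hab
    u := fun X => (Ψ X : G)
    u_mul := fun X Y => by rw [← Subgroup.coe_mul, hΨmul]
    u_fix := fun X => mem_stabilizer_iff.1 (s.le (Ψ X).2)
    u_reg := fun c hc => by
      obtain ⟨x, hx, hxc⟩ := s.transitive c hc
      obtain ⟨X, hX⟩ := hΨ.2 ⟨x, hx⟩
      have hX' : (Ψ X : G) = x := congrArg Subtype.val hX
      refine ⟨X, ?_, fun Y hY => hΨ.1 (Subtype.ext ?_)⟩
      · show (Ψ X : G) • b = c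
        rw [hX', hxc]
      · rw [hX']
        by_contra hne
        refine hab.symm (s.fix (x⁻¹ * (Ψ Y : G)) (U.mul_mem (U.inv_mem hx) (Ψ Y).2)
          (fun e' => hne (inv_mul_eq_one.1 e').symm) b ?_)
        rw [mul_smul, hY, inv_smul_eq_iff, hxc]
    hh := hm
    hh_fix := fun x => by
      obtain ⟨i, rfl⟩ := hunit x
      rw [hmpow]
      exact Subgroup.mem_inf.1 (E.pow_mem hε i)
    hh_all := fun x h1 h2 => by
      obtain ⟨i, hi⟩ := (isOfFinOrder_of_finite _).mem_powers_iff_mem_zpowers.mpr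
        (hgen ⟨x, Subgroup.mem_inf.2 ⟨h1, h2⟩⟩)
      exact ⟨gu ^ i, (hmpow i).trans (congrArg Subtype.val hi)⟩
    hh_inj := by
      rw [injective_iff_map_eq_one]
      intro x hx
      obtain ⟨i, rfl⟩ := hunit x
      rw [hmpow, ← orderOf_dvd_iff_pow_eq_one, hεo, ← hguo, orderOf_dvd_iff_pow_eq_one] at hx
      exact hx
    hh_conj := fun x X => by
      obtain ⟨i, rfl⟩ := hunit x
      rw [hmpow]
      induction i with
      | zero => simp [usc_one]
      | succ i ih =>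
        rw [pow_succ', mul_assoc, ih, ← mul_assoc]
        have h1 : (ε : G) * (Ψ (usc φ ((gu ^ i : Fˣ) : F) X) : G) =
            (Ψ (usc φ g (usc φ ((gu ^ i : Fˣ) : F) X)) : G) * ε := by
          rw [← hkΨ]
          have := hkp 1 (Ψ (usc φ ((gu ^ i : Fˣ) : F) X))
          rw [pow_one, pow_one] at this
          rw [this, inv_mul_cancel_right]
        rw [h1, usc_usc, mul_assoc]
        simp only [pow_succ', Units.val_mul, gu, Units.val_mk0]
    t := τ
    t_a := hτa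
    t_b := hτb
    t_sq := hττ
    t_hh := fun x => by
      obtain ⟨i, rfl⟩ := hunit x
      rw [map_inv, hmpow, ← hinv _ (E.pow_mem hε i), inv_mul_cancel_right]
    faithful := fun x hx => eq_of_smul_eq_smul (α := Ω) (fun c => by rw [hx, one_smul])
    pw_inj := fun x y _ hxy => hpw hxy }⟩⟩

/-- Suzuki's uniqueness theorem. -/
theorem isoSuzuki_of_zassenhaus {G : Type u} {Ω : Type v} [Group G] [Finite G] [MulAction G Ω]
    [Finite Ω] (hZ : Cfsg.IsZassenhausGroup G Ω) [IsSimpleGroup G] {a b : Ω} (hab : a ≠ b)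
    (U : Subgroup G) (hUle : U ≤ stabilizer G a)
    (hUn : ∀ g ∈ stabilizer G a, ∀ u ∈ U, g * u * g⁻¹ ∈ U)
    (hreg : ∀ c d : Ω, c ≠ a → d ≠ a → ∃! u : U, (u : G) • c = d)
    (hU2 : IsPGroup 2 U) (hUna : ∃ u ∈ U, ∃ v ∈ U, u * v ≠ v * u) :
    Cfsg.Lie.IsoSuzuki G := by
  letI := Fintype.ofFinite G
  letI := Fintype.ofFinite Ω
  obtain ⟨h, e, q, d⟩ := Zassenhaus.TwoKernel.exists_data hZ hab hUle hUn hreg hU2 hUna
  obtain ⟨m, F, iF, iFF, iC, φ, hm, hF, ⟨D⟩⟩ := exists_frame d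
  obtain ⟨φ', ⟨E⟩⟩ := exists_frame_Sz (⟨hm, hF⟩ : Suzuki.Hyp F m)
  obtain ⟨i⟩ := nonempty_mulEquiv hm hF hF D E
  exact ⟨F, iF, iFF, m, hm, hF, ⟨i.trans (SuzukiSp4.szEquiv ⟨hm, hF⟩)⟩⟩

/-- A group isomorphic to a Suzuki group is isomorphic to the one over any field of that order. -/
theorem nonempty_sz_equiv {F : Type u} [Field F] [Fintype F] {F' : Type v} [Field F'] [Fintype F']
    {m : ℕ} (hm : 1 ≤ m) (hF : Fintype.card F = 2 ^ (2 * m + 1))
    (hF' : Fintype.card F' = 2 ^ (2 * m + 1)) :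
    Nonempty (↥(Cfsg.Lie.Sz F (2 ^ (m + 1))) ≃* ↥(Cfsg.Lie.Sz F' (2 ^ (m + 1)))) := by
  have h : Suzuki.Hyp F m := ⟨hm, hF⟩
  have h' : Suzuki.Hyp F' m := ⟨hm, hF'⟩
  haveI := h.charP
  haveI := h'.charP
  obtain ⟨φ, ⟨D⟩⟩ := exists_frame_Sz h
  obtain ⟨φ', ⟨E⟩⟩ := exists_frame_Sz h'
  obtain ⟨i⟩ := nonempty_mulEquiv hm hF hF' D E
  exact ⟨(SuzukiSp4.szEquiv h).symm.trans (i.trans (SuzukiSp4.szEquiv h'))⟩

end Cfsg.Agent.Lib.SuzukiUniq
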